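import Groth.Agent.Stk19b.Rigid.Chart
import Groth.Agent.Stk19b.Gerbe.Flat
import Groth.Agent.Stk19b.Fppf.Bootstrap
import Groth.Agent.AlgSpLib.FppfSpace

/-!
# An algebraic stack with flat, finitely presented inertia is a gerbe over an algebraic space
-/

set_option autoImplicit false
set_option backward.isDefEq.respectTransparency false
set_option backward.isDefEq.respectTransparency.types false

universe u

open CategoryTheory CategoryTheory.Limits AlgebraicGeometry Opposite FibCat Groth.Agent.Desc19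

noncomputable section

namespace Groth.Agent.Stk19b.Rigid

open Groth.Agent.Stk19

variable {S : Scheme.{u}} {𝒳 : AlgSt.Cat S}

local notation "AS" => AlgSt.IsAlgStack Scheme.fppfPrecoverage
local notation "Fl" => AlgSt.RepByAlgSpWith (AlgSp.LocP @Flat)
local notation "Lp" => AlgSt.RepByAlgSpWith (AlgSp.LocP @LocallyOfFinitePresentation)

/-- A morphism into an algebraic space representable by spaces with the three properties is an fppf cover. -/
theorem props_of_repBySpWith {X R : AlgSp.Sp S} (hX : AlgSp.IsAlgSpace X) (hR : AlgSp.IsAlgSpace R) {a : X ⟶ R}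
    (h : AlgSp.RepBySpWith
      (AlgSp.IsSurjectiveMor ⊓ AlgSp.LocP @Flat ⊓ AlgSp.LocP @LocallyOfFinitePresentation) a.hom) :
    AlgSp.IsSurjectiveMor a ∧ AlgSp.LocP @Flat a ∧ AlgSp.LocP @LocallyOfFinitePresentation a := by
  obtain ⟨W, w, hwe, hws⟩ := hR.atlas
  have sq := IsPullback.of_hasPullback a w
  obtain ⟨hQ, ⟨h₁, h₂⟩, h₃⟩ := (AlgSp.repBySpWith_hom_iff _ _).1 h w _ _ sq
  refine ⟨fun x => ?_, AlgSpLib.locP_of_target_cover AlgSpLib.etLocal_flat hX hR w hwe hws sq h₂,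
    AlgSpLib.locP_of_target_cover AlgSpLib.etLocal_lfp hX hR w hwe hws sq h₃⟩
  obtain ⟨t, rfl⟩ := AlgSpLib.surjective_map_of_repWith hws x
  obtain ⟨z, rfl⟩ := h₁ t
  exact ⟨AlgSp.Points.map (pullback.fst a w) z, by rw [← AlgSp.Points.map_comp, sq.w, AlgSp.Points.map_comp]⟩

/-- Flatness and finite presentation descend along an fppf cover of the source. -/
theorem descend_source {X R Y : AlgSp.Sp S} (hX : AlgSp.IsAlgSpace X) (hR : AlgSp.IsAlgSpace R)
    (hY : AlgSp.IsAlgSpace Y) {a : X ⟶ R} (h₁ : AlgSp.IsSurjectiveMor a) (h₂ : AlgSp.LocP @Flat a)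
    (h₃ : AlgSp.LocP @LocallyOfFinitePresentation a) {f : R ⟶ Y} :
    (AlgSp.LocP @Flat (a ≫ f) → AlgSp.LocP @Flat f) ∧
      (AlgSp.LocP @LocallyOfFinitePresentation (a ≫ f) → AlgSp.LocP @LocallyOfFinitePresentation f) := by
  have hc := AlgSpLib.isFppfCover_single hX hR h₁ h₂ h₃
  exact ⟨fun h => (AlgSpLib.isLocalOnSource_fppf_of_descend.{u} (S := S) AlgSpLib.etLocal_flat.{u} inf_le_left
      (fun _ hk => IsZariskiLocalAtSource.sigmaDesc hk)
      (fun c k hc' _ hs h => by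
        have : Flat c := hc'
        have : Surjective c := hs
        have : Flat (c ≫ k) := h
        exact FlatLocal.flat_of_comp c k) _ _ hR (fun _ => hX) hc f hY).2 fun _ => h,
    fun h => (AlgSpLib.isLocalOnSource_fppf_lfp _ _ hR (fun _ => hX) hc f hY).2 fun _ => h⟩

/-- The composite of the space of isomorphisms to the chart has the properties of the atlas. -/
theorem locP_isom_fst (h𝒳 : AS 𝒳) {Q : MorphismProperty Scheme.{u}} (hQ : AlgSpLib.EtLocal Q) {U : Over S}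
    {u : overCat U ⥤ᵇ 𝒳} (hu : AlgSt.RepByAlgSpWith (AlgSp.LocP Q) u) {X : AlgSp.Space S}
    {e : AlgSt.ofSp X.obj ⥤ᵇ fp (pairU u) (FibCat.diag (toSelf 𝒳))} (he : IsEquivOver e) :
    AlgSp.LocP Q (AlgSt.spMapOfOver (BasedFunctor.comp e (fpFst _ _)) ≫ (AlgSp.yon S).map prod.fst) := by
  let Δ := FibCat.diag (toSelf 𝒳)
  have := id_full (fp (toSelf 𝒳) (toSelf 𝒳))
  have := id_faithful (fp (toSelf 𝒳) (toSelf 𝒳))
  let i : pairU u ≅ BasedFunctor.comp (sliceProd U U) (prodPair u u) := eqToIso (based_ext rfl)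
  let E₁ : fp (pairU u) Δ ⥤ᵇ fp (prodPair u u) Δ :=
    fpMap (sliceProd U U) (BasedFunctor.id 𝒳) (BasedFunctor.id (fp (toSelf 𝒳) (toSelf 𝒳))) i (Iso.refl _)
  have hE₁ : IsEquivOver E₁ := isEquivOver_fpMap _ _ _ _ _ (isEquivOver_sliceProd U U) (isEquivOver_id 𝒳)
  obtain ⟨G, hG, -, ⟨c⟩⟩ := exists_inverse (isEquivOver_magicSquare u u)
  let E := BasedFunctor.comp (BasedFunctor.comp e E₁) G
  obtain ⟨F', e', he', hp⟩ := hu U u
  have h2 := repWith_any (respSrc_locP hQ) he' hp E (isEquivOver_comp (isEquivOver_comp he hE₁) hG)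
  let p₁ := BasedFunctor.comp (fpFst (prodPair u u) Δ) (fpFst (toSelf (overCat U)) (toSelf (overCat U)))
  have j : BasedFunctor.comp E (fpFst u u) ≅
      BasedFunctor.comp (BasedFunctor.comp e (fpFst (pairU u) Δ)) (AlgSt.overMap prod.fst) :=
    (Stk.restr (BasedFunctor.comp e E₁) _).mapIso ((postB _ p₁).mapIso c)
  rw [spMapOfOver_congr j.hom, spMapOfOver_overMap] at h2
  exact h2

theorem isAlgSpace_rigid (h𝒳 : AS 𝒳) (hfl : Fl (fpFst (FibCat.diag (toSelf 𝒳)) (FibCat.diag (toSelf 𝒳))))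
    (hlp : Lp (fpFst (FibCat.diag (toSelf 𝒳)) (FibCat.diag (toSelf 𝒳)))) :
    AlgSp.IsAlgSpace (rigid h𝒳.isStack.1) := by
  obtain ⟨U, u, hu, hus⟩ := h𝒳.atlas
  obtain ⟨X, e, a, he, ha, hrep⟩ := exists_kernelPair h𝒳 hfl hlp u
  let q := rigidQ h𝒳.isStack.1 u
  have hR : AlgSp.IsAlgSpace (pullback q q) := Fppf.isAlgSpace_of_fppf_cover X.property a hrep
  obtain ⟨h₁, h₂, h₃⟩ := props_of_repBySpWith X.property hR hrep
  obtain ⟨hd₁, hd₂⟩ := descend_source X.property hR (AlgSp.IsAlgSpace.yon_obj U) h₁ h₂ h₃ (f := pullback.fst q q)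
  have hU := isAlgStack_overCat U
  have hsf : AlgSp.LocP @Flat (pullback.fst q q) :=
    hd₁ (by rw [ha]; exact locP_isom_fst h𝒳 AlgSpLib.etLocal_flat (with_flat_of_smooth hu).1 he)
  have hsp : AlgSp.LocP @LocallyOfFinitePresentation (pullback.fst q q) :=
    hd₂ (by rw [ha]; exact locP_isom_fst h𝒳 AlgSpLib.etLocal_lfp (with_flat_of_smooth hu).2 he)
  have hj : AlgSp.IsEqvRelSp (pullback.fst q q) (pullback.snd q q) :=
    ⟨fun T r r' e₁ e₂ => pullback.hom_ext e₂ e₁, fun T =>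
      ⟨fun x => ⟨pullback.lift x x rfl, pullback.lift_snd _ _ _, pullback.lift_fst _ _ _⟩,
        fun {x y} ⟨r, hx, hy⟩ => ⟨pullback.lift x y (by
          rw [← hx, ← hy, Category.assoc, Category.assoc, pullback.condition]),
          pullback.lift_snd _ _ _, pullback.lift_fst _ _ _⟩,
        fun {x y z} ⟨r, hx, hy⟩ ⟨r', hy', hz⟩ => ⟨pullback.lift z x (by
          have e₁ : y ≫ q = x ≫ q := by rw [← hx, ← hy, Category.assoc, Category.assoc, pullback.condition]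
          have e₂ : z ≫ q = y ≫ q := by rw [← hz, ← hy', Category.assoc, Category.assoc, pullback.condition]
          rw [e₂, e₁]), pullback.lift_snd _ _ _, pullback.lift_fst _ _ _⟩⟩⟩
  have hQ := Fppf.isAlgSpace_quotSp hR (AlgSp.IsAlgSpace.yon_obj U) hj hsf hsp
  have hq : Epi q := epi_rigidQ _ (Gerbe.locSurjObj_of_flat_lfp hU h𝒳 (isSurjective_of_with h𝒳.isStack.1 hus)
    (locQ_of_with smST_flat hU h𝒳 (with_flat_of_smooth hu).1)
    (locQ_of_with smST_lfp hU h𝒳 (with_flat_of_smooth hu).2))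
  have : IsRegularEpiCategory (AlgSp.Sp S) :=
    inferInstanceAs (IsRegularEpiCategory (Sheaf (AlgSp.J S) (Type (u + 1))))
  have : IsRegularEpi q := IsRegularEpiCategory.regularEpiOfEpi q
  let d : AlgSp.quotSp (pullback.fst q q) (pullback.snd q q) ⟶ rigid h𝒳.isStack.1 :=
    AlgSp.quotSpDesc q pullback.condition
  let π := AlgSp.quotSpπ (pullback.fst q q) (pullback.snd q q)
  let b : rigid h𝒳.isStack.1 ⟶ AlgSp.quotSp (pullback.fst q q) (pullback.snd q q) :=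
    EffectiveEpi.desc q π fun {Z} g₁ g₂ hg => by
      rw [← pullback.lift_fst g₁ g₂ hg, Category.assoc]
      conv_rhs => rw [← pullback.lift_snd g₁ g₂ hg, Category.assoc]
      rw [AlgSp.quotSp_condition]
  have hb : q ≫ b = π := EffectiveEpi.fac q π _
  have hd : π ≫ d = q := AlgSp.quotSpπ_desc _ _ q pullback.condition
  exact hQ.of_iso ⟨d, b, (cancel_epi π).1 (by rw [← Category.assoc, hd, hb, Category.comp_id]),
    (cancel_epi q).1 (by rw [← Category.assoc, hb, hd, Category.comp_id])⟩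

theorem isAlgStack_inertia_self (h𝒳 : AS 𝒳) :
    AlgSt.RepByAlgSp1 (inertiaToBase (toSelf 𝒳)) ∧ AS (inertia (toSelf 𝒳)) := by
  have h0 : AlgSt.RepByAlgSpWith ⊤ (FibCat.diag (toSelf 𝒳)) := fun U y => by
    obtain ⟨F, e, he⟩ := h𝒳.diag U y
    exact ⟨F, e, he, trivial⟩
  have h1 := repByAlgSp1_of_with (inertia_with_of_diag h0)
  exact ⟨h1, isAlgStack_of_rep1 (fibGrpd_inertia h𝒳.isStack.1 isStack_selfOver.1 _) h𝒳 _ h1⟩

/-- The inertia relative to a space is the absolute inertia. -/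
def inertiaOfSpace {F : AlgSp.Sp S} (π : 𝒳 ⥤ᵇ AlgSt.ofSp F) : inertia π ⥤ᵇ inertia (toSelf 𝒳) where
  toFunctor :=
    { obj := fun t => ⟨t.pt, t.aut, inertia_aut_map t⟩
      map := fun φ => ⟨φ.hom, φ.comm⟩ }
  w := rfl

theorem isEquivOver_inertiaOfSpace {F : AlgSp.Sp S} (π : 𝒳 ⥤ᵇ AlgSt.ofSp F) :
    IsEquivOver (inertiaOfSpace π) := by
  refine EqvData.isEquivOver ⟨⟨fun {s t} k =>
      ⟨@InertiaObj.Hom.mk _ _ _ _ π s t k.hom k.comm, rfl⟩⟩,
    ⟨fun {s t} k k' hk => @InertiaObj.hom_ext _ _ _ _ π s t k k' (congrArg InertiaObj.Hom.hom hk :)⟩, fun z => ?_⟩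
  have hz : 𝒳.p.map z.aut.hom = 𝟙 _ := z.map_aut
  have hbase := based_map π z.aut.hom
  refine ⟨⟨z.pt, z.aut, Stk.EltObj.Hom.ext ?_⟩, Iso.refl _, IsHomLift.id rfl⟩
  refine hbase.trans ?_
  rw [hz]
  simp

theorem inertia_props_of_gerbe (h𝒳 : AS 𝒳) (hg : Gerb.IsAlgGerbe Scheme.fppfPrecoverage 𝒳) :
    AlgSt.LocQ (AlgSp.LocP @Flat) (inertiaToBase (toSelf 𝒳)) ∧
      AlgSt.LocQ (AlgSp.LocP @LocallyOfFinitePresentation) (inertiaToBase (toSelf 𝒳)) := by
  obtain ⟨X, π, hπ⟩ := hg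
  have hY : AS (AlgSt.ofSp X.obj) := (isDM_ofSp X).1
  have hN := isAlgStack_fp hY.isStack hY.diag h𝒳 h𝒳 π π
  have hD := Gerbe.rep1_diag_of_algStack h𝒳 hY π
  obtain ⟨-, h₁, h₂⟩ := Gerbe.gerbe_diag_props h𝒳 hY hπ
  have hI := (isAlgStack_inertia_self h𝒳).2
  have main : ∀ {Q : MorphismProperty Scheme.{u}}, AlgSpLib.EtLocal Q →
      AlgSp.IsSmoothLocalST (AlgSp.LocP (S := S) Q) → AlgSt.LocQ (AlgSp.LocP Q) (FibCat.diag π) →
      AlgSt.LocQ (AlgSp.LocP Q) (inertiaToBase (toSelf 𝒳)) := fun {Q} hQ hsm h => by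
    refine locQ_of_with hsm hI h𝒳 ?_
    exact (repByAlgSpWith_iff_of_square (f' := inertiaToBase π) (f := inertiaToBase (toSelf 𝒳))
      (a := inertiaOfSpace π) (b := BasedFunctor.id _) (isEquivOver_inertiaOfSpace π) (isEquivOver_id _)
      (Iso.refl _)).1 (inertia_with_of_diag (with_of_locQ hsm (pbStable_locP hQ) (schDescent_locP hQ) h𝒳 hN hD h))
  exact ⟨main AlgSpLib.etLocal_flat smST_flat h₁, main AlgSpLib.etLocal_lfp smST_lfp h₂⟩

/-- Stacks with flat, finitely presented inertia are gerbes over algebraic spaces. -/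
theorem isAlgGerbe_of_inertia (h𝒳 : AS 𝒳) (h₁ : AlgSt.LocQ (AlgSp.LocP @Flat) (inertiaToBase (toSelf 𝒳)))
    (h₂ : AlgSt.LocQ (AlgSp.LocP @LocallyOfFinitePresentation) (inertiaToBase (toSelf 𝒳))) :
    Gerb.IsAlgGerbe Scheme.fppfPrecoverage 𝒳 := by
  obtain ⟨hr, hI⟩ := isAlgStack_inertia_self h𝒳
  have hfl := with_of_locQ smST_flat (pbStable_locP AlgSpLib.etLocal_flat)
    (schDescent_locP AlgSpLib.etLocal_flat) hI h𝒳 hr h₁
  have hlp := with_of_locQ smST_lfp (pbStable_locP AlgSpLib.etLocal_lfp)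
    (schDescent_locP AlgSpLib.etLocal_lfp) hI h𝒳 hr h₂
  exact ⟨⟨_, isAlgSpace_rigid h𝒳 (inertiaToBase_with_iff_fpFst.1 hfl) (inertiaToBase_with_iff_fpFst.1 hlp)⟩,
    rigidπ h𝒳.isStack.1, isGerbeOver_rigidπ _⟩

end Groth.Agent.Stk19b.Rigid
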