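import Groth.Agent.Stk19b.Rigid.Space
import Groth.Agent.Stk19b.LocIm.OnePoint
import Groth.Agent.Stk19b.Gerbe.QcDiag
import Groth.Agent.Stk19.AlgSt.SepDiag

/-!
# Reduced locally Noetherian stacks with one point are gerbes
-/

set_option autoImplicit false
set_option backward.isDefEq.respectTransparency false
set_option backward.isDefEq.respectTransparency.types false

universe u

open CategoryTheory CategoryTheory.Limits AlgebraicGeometry Opposite FibCat Groth.Agent.Desc19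

noncomputable section

namespace Groth.Agent.Stk19b.Rigid

open Groth.Agent.Stk19

variable {S : Scheme.{u}} {𝒳 : AlgSt.Cat S}

local notation "AS" => AlgSt.IsAlgStack Scheme.fppfPrecoverage
local notation "Srj" => AlgSt.RepByAlgSpWith AlgSp.IsSurjectiveMor
local notation "Fl" => AlgSt.RepByAlgSpWith (AlgSp.LocP @Flat)
local notation "Lp" => AlgSt.RepByAlgSpWith (AlgSp.LocP @LocallyOfFinitePresentation)
local notation "Lt" => AlgSt.RepByAlgSpWith (AlgSp.LocP @LocallyOfFiniteType)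

theorem locP_yon_comp {Q : MorphismProperty Scheme.{u}} (hQ : AlgSpLib.EtLocal Q) {T W V : Over S} {t : T ⟶ W}
    {l : W ⟶ V} (h : AlgSp.LocP Q ((AlgSp.yon S).map t)) (h' : AlgSp.LocP Q ((AlgSp.yon S).map l)) :
    AlgSp.LocP Q ((AlgSp.yon S).map (t ≫ l)) := by
  have := hQ.comp
  have := hQ.bc
  rw [locP_yon_iff hQ] at h h' ⊢
  rw [Over.comp_left]
  exact Q.comp_mem _ _ h h'

/-- A stack fppf covered by a field is a gerbe. -/
theorem isAlgGerbe_of_field (h𝒳 : AS 𝒳) {k : Type u} [Field k] {a : Spec (CommRingCat.of k) ⟶ S}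
    {z : overCat (Over.mk a) ⥤ᵇ 𝒳} (hzp : Lp z) (hzs : Srj z) (hzf : Fl z) :
    Gerb.IsAlgGerbe Scheme.fppfPrecoverage 𝒳 := by
  obtain ⟨hr, hI⟩ := isAlgStack_inertia_self h𝒳
  let I := inertiaToBase (toSelf 𝒳)
  have hl : Lt (fpFst z I) := repByAlgSpWith_fpFst z (inertia_with_of_diag (diag_toSelf_lft h𝒳))
  have hK := isAlgStack_overCat (Over.mk a)
  have hA := isAlgStack_fp h𝒳.isStack h𝒳.diag hK hI z I
  have hidS : Srj (BasedFunctor.id (overCat (Over.mk a))) :=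
    repByAlgSpWith_of_isEquivOver (isEquivOver_id _) fun G => surjective_id G
  have hid := Gerbe.with_id_overCat AlgSpLib.etLocal_smooth (Over.mk a)
  have h₁ : Fl (fpFst z I) := with_of_locQ smST_flat (pbStable_locP AlgSpLib.etLocal_flat)
    (schDescent_locP AlgSpLib.etLocal_flat) hA hK (repByAlgSp1_of_with hl)
    (locQ_of_good hA hK hid hidS (LocIm.good_flat_field (fpFst z I) (BasedFunctor.id _)))
  have h₂ : Lp (fpFst z I) := with_of_locQ smST_lfp (pbStable_locP AlgSpLib.etLocal_lfp)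
    (schDescent_locP AlgSpLib.etLocal_lfp) hA hK (repByAlgSp1_of_with hl)
    (locQ_of_good hA hK hid hidS (LocIm.good_lfp_field hl (BasedFunctor.id _)))
  exact isAlgGerbe_of_inertia h𝒳
    (locQ_of_with smST_flat hI h𝒳 (with_of_cover (respSrc_locP AlgSpLib.etLocal_flat)
      (schDescent_locP AlgSpLib.etLocal_flat) hr hzf hzp hzs h₁))
    (locQ_of_with smST_lfp hI h𝒳 (with_of_cover (respSrc_locP AlgSpLib.etLocal_lfp)
      (schDescent_locP AlgSpLib.etLocal_lfp) hr hzf hzp hzs h₂))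

theorem exists_singleton_space (h𝒳 : AS 𝒳) (hred : AlgSt.SmoothLocally (fun T => IsReduced T) 𝒳)
    (hnoeth : AlgSt.SmoothLocally (fun T => IsLocallyNoetherian T) 𝒳)
    (hne : Nonempty (AlgSt.Points 𝒳)) (hsub : Subsingleton (AlgSt.Points 𝒳)) :
    ∃ (Z : AlgSp.Space S) (π : 𝒳 ⥤ᵇ AlgSt.ofSp Z.obj),
      Gerb.IsGerbeOver (QuotSh.J Scheme.fppfPrecoverage S) π ∧
        AlgSp.EtaleLocally (fun T => IsReduced T) Z.obj ∧ AlgSp.IsLocNoethSp Z.obj ∧
        Nonempty (AlgSp.Points Z.obj) ∧ Subsingleton (AlgSp.Points Z.obj) := by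
  obtain ⟨k, _, a, z, hzp, hzs, hzf⟩ := LocIm.exists_fppf_field h𝒳 hred hnoeth hne hsub
  obtain ⟨Z, π, hπ⟩ := isAlgGerbe_of_field h𝒳 hzp hzs hzf
  have hZ : AS (AlgSt.ofSp Z.obj) := (isDM_ofSp Z).1
  have hh := (Gerbe.isHomeomorph_of_gerbe h𝒳 hZ hπ).bijective
  have hb := stPt_bijective (F := Z.obj)
  obtain ⟨hs, h₁, h₂⟩ := Gerbe.gerbe_props h𝒳 hZ hπ
  have hK := isAlgStack_overCat (Over.mk a)
  let w := BasedFunctor.comp z π
  have hzl₁ := locQ_of_with smST_flat hK h𝒳 hzf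
  have hzl₂ := locQ_of_with smST_lfp hK h𝒳 hzp
  have hwr : AlgSt.RepByAlgSp1 w := repByAlgSp1_of_diag hZ.isStack.1 hZ.diag (repByAlgSp_overCat _) w
  have hwf : Fl w := with_of_locQ smST_flat (pbStable_locP AlgSpLib.etLocal_flat)
    (schDescent_locP AlgSpLib.etLocal_flat) hK hZ hwr
    (locQ_comp smST_flat (fun T W V t l h h' => locP_yon_comp AlgSpLib.etLocal_flat h h') hK h𝒳 hZ hzl₁ h₁)
  have hwp : Lp w := with_of_locQ smST_lfp (pbStable_locP AlgSpLib.etLocal_lfp)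
    (schDescent_locP AlgSpLib.etLocal_lfp) hK hZ hwr
    (locQ_comp smST_lfp (fun T W V t l h h' => locP_yon_comp AlgSpLib.etLocal_lfp h h') hK h𝒳 hZ hzl₂ h₂)
  have hws : Srj w := with_surjective_of_isSurjective hK.isStack.1 hZ.isStack.1 hwr fun p => by
    obtain ⟨q, rfl⟩ := hs p
    obtain ⟨r, rfl⟩ := isSurjective_of_with h𝒳.isStack.1 hzs q
    exact ⟨r, points_map_comp z π r⟩
  obtain ⟨W, c, hce, hcs⟩ := Z.property.atlas
  have hc := with_sp_chart AlgSpLib.etLocal_smooth Z.property c hce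
  refine ⟨Z, π, hπ, ⟨W, c, hce, hcs, LocIm.reduced_of_field hZ hws hwf W _ hc⟩,
    ⟨W, c, hce, hcs, LocIm.noetherian_of_field hZ hwp hws hwf W _ hc⟩, ?_, ?_⟩
  · obtain ⟨p⟩ := hne
    exact ⟨(hb.2 (AlgSt.Points.map π p)).choose⟩
  · refine ⟨fun x y => hb.1 ?_⟩
    obtain ⟨x', hx⟩ := hh.2 (stPt x)
    obtain ⟨y', hy⟩ := hh.2 (stPt y)
    rw [← hx, ← hy, Subsingleton.elim x' y']

end Groth.Agent.Stk19b.Rigid
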