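import Groth.Agent.Stk19b.Rigid.Strata
import Groth.Agent.AlgSpLib.Diag
import Groth.Agent.Stk19b.LocIm.SpaceRG
import Mathlib.SetTheory.Cardinal.Order
import Mathlib.Topology.Constructions

/-!
# Stratification by gerbes and residual gerbes
-/

set_option autoImplicit false
set_option backward.isDefEq.respectTransparency false
set_option backward.isDefEq.respectTransparency.types false

universe v u

open CategoryTheory CategoryTheory.Limits AlgebraicGeometry Opposite FibCat Groth.Agent.Desc19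

noncomputable section

namespace Groth.Agent.Stk19b.Rigid

open Groth.Agent.Stk19

theorem peel_aux {α : Type v} [TopologicalSpace α] {β : Type*} (r : β → Set α) (P : Set α → β → Prop)
    (step : ∀ T : Set α, IsClosed T →
      ∃ b, P T b ∧ (∃ A, IsOpen A ∧ r b = T ∩ A) ∧ (T.Nonempty → (r b).Nonempty))
    (ι : Type v) [LinearOrder ι] [WellFoundedLT ι] (hbig : ∀ f : ι → α, ¬ Function.Injective f) :
    ∃ (Q : ι → β) (T : ι → Set α),
      (∀ i, T i = {p | ∀ i', i' < i → p ∉ r (Q i')}) ∧ (∀ p, ∃ i, p ∈ r (Q i)) ∧ (∀ i, IsClosed (T i)) ∧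
      ∀ i, P (T i) (Q i) ∧ r (Q i) ⊆ T i ∧ IsOpen ((Subtype.val : T i → α) ⁻¹' r (Q i)) := by
  classical
  choose b hP hA hne using fun T : Set α => step (closure T) isClosed_closure
  choose A hAo hAe using hA
  let T : ι → Set α := wellFounded_lt.fix fun i rec => {p | ∀ (i' : ι) (h : i' < i), p ∉ r (b (rec i' h))}
  have hT : ∀ i, T i = {p | ∀ i', i' < i → p ∉ r (b (T i'))} := fun i => wellFounded_lt.fix_eq _ i
  have hTc : ∀ i, IsClosed (T i) := fun i => by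
    induction i using WellFoundedLT.induction with
    | _ i ih =>
      have e : T i = ⋂ (i' : ι) (_ : i' < i), T i' ∩ (A (T i'))ᶜ := by
        ext p
        simp only [Set.mem_iInter, Set.mem_inter_iff, Set.mem_compl_iff]
        constructor
        · intro hp i' hi'
          rw [hT] at hp
          have h1 : p ∈ T i' := by rw [hT]; exact fun i'' h'' => hp i'' (h''.trans hi')
          refine ⟨h1, fun h2 => hp i' hi' ?_⟩
          rw [hAe, (ih i' hi').closure_eq]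
          exact ⟨h1, h2⟩
        · intro hp
          rw [hT]
          intro i' hi' h
          rw [hAe, (ih i' hi').closure_eq] at h
          exact (hp i' hi').2 h.2
      rw [e]
      exact isClosed_biInter fun i' hi' => (ih i' hi').inter (hAo _).isClosed_compl
  have hr : ∀ i, r (b (T i)) = T i ∩ A (T i) := fun i => by rw [hAe, (hTc i).closure_eq]
  refine ⟨fun i => b (T i), T, hT, fun p => ?_, hTc, fun i => ⟨?_, ?_, ?_⟩⟩
  · by_contra hp
    push Not at hp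
    have hne' : ∀ i, (r (b (T i))).Nonempty := fun i => hne (T i) <| by
      rw [(hTc i).closure_eq]
      exact ⟨p, by rw [hT]; exact fun i' _ => hp i'⟩
    choose f hf using hne'
    refine hbig f fun i j hij => ?_
    rcases lt_trichotomy i j with h | h | h
    · have := hf j
      rw [hr, hT] at this
      exact absurd (hij ▸ hf i) (this.1 i h)
    · exact h
    · have := hf i
      rw [hr, hT] at this
      exact absurd (hij ▸ hf j) (this.1 j h)
  · have := hP (T i); rwa [(hTc i).closure_eq] at this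
  · rw [hr]; exact Set.inter_subset_left
  · rw [hr, Set.preimage_inter, Subtype.coe_preimage_self, Set.univ_inter]
    exact (hAo _).preimage continuous_subtype_val


/-- Peeling off relatively open nonempty pieces exhausts a space along a well-order. -/
theorem exists_peel {α : Type v} [TopologicalSpace α] {β : Type*} (r : β → Set α) (P : Set α → β → Prop)
    (step : ∀ T : Set α, IsClosed T →
      ∃ b, P T b ∧ (∃ A, IsOpen A ∧ r b = T ∩ A) ∧ (T.Nonempty → (r b).Nonempty)) :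
    ∃ (I : Type v) (_ : LinearOrder I) (_ : WellFoundedLT I) (Q : I → β) (T : I → Set α),
      (∀ i, T i = {p | ∀ i', i' < i → p ∉ r (Q i')}) ∧ (∀ p, ∃ i, p ∈ r (Q i)) ∧ (∀ i, IsClosed (T i)) ∧
      ∀ i, P (T i) (Q i) ∧ r (Q i) ⊆ T i ∧ IsOpen ((Subtype.val : T i → α) ⁻¹' r (Q i)) := by
  classical
  let o : LinearOrder (Set α) := linearOrderOfSTO WellOrderingRel
  have hwf : @WellFoundedLT (Set α) o.toPartialOrder.toPreorder.toLT :=
    @IsWellFounded.mk _ _ (WellOrderingRel.isWellOrder (α := Set α)).wf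
  obtain ⟨Q, T, h⟩ := @peel_aux α _ β r P step (Set α) o hwf fun f => Function.cantor_injective f
  exact ⟨Set α, o, hwf, Q, T, h⟩

variable {S : Scheme.{u}} {𝒳 : AlgSt.Cat S}

local notation "AS" => AlgSt.IsAlgStack Scheme.fppfPrecoverage

theorem exists_stratification (h𝒳 : AS 𝒳)
    (hI : AlgSt.IsQuasiCompactMor Scheme.fppfPrecoverage (inertiaToBase (toSelf 𝒳))) :
    ∃ (I : Type (u + 1)) (_ : LinearOrder I) (_ : WellFoundedLT I) (Q : I → 𝒳.obj → Prop)
      (T : I → Set (AlgSt.Points 𝒳)),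
      (∀ i, T i = {p | ∀ i', i' < i → p ∉ Set.range (AlgSt.Points.map (AlgSt.subIncl 𝒳 (Q i')))}) ∧
      (∀ i, AlgSt.IsLocClosedSubstack 𝒳 (Q i) Scheme.fppfPrecoverage ∧
        AlgSt.SmoothLocally (fun X => IsReduced X) (AlgSt.fullSub 𝒳 (Q i)) ∧
        Gerb.IsAlgGerbe Scheme.fppfPrecoverage (AlgSt.fullSub 𝒳 (Q i))) ∧
      (∀ p : AlgSt.Points 𝒳, ∃ i, p ∈ Set.range (AlgSt.Points.map (AlgSt.subIncl 𝒳 (Q i)))) ∧
      (∀ i, IsClosed (T i)) ∧
      (∀ i, Set.range (AlgSt.Points.map (AlgSt.subIncl 𝒳 (Q i))) ⊆ T i ∧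
        IsOpen ((Subtype.val : T i → AlgSt.Points 𝒳) ⁻¹' Set.range (AlgSt.Points.map (AlgSt.subIncl 𝒳 (Q i)))) ∧
        Dense ((Subtype.val : T i → AlgSt.Points 𝒳) ⁻¹' Set.range (AlgSt.Points.map (AlgSt.subIncl 𝒳 (Q i))))) := by
  obtain ⟨I, o, w, Q, T, hT, hcov, hc, hQ⟩ := exists_peel (fun Q => Set.range (AlgSt.Points.map (AlgSt.subIncl 𝒳 Q)))
    (fun T Q => (AlgSt.IsLocClosedSubstack 𝒳 Q Scheme.fppfPrecoverage ∧
        AlgSt.SmoothLocally (fun X => IsReduced X) (AlgSt.fullSub 𝒳 Q) ∧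
        Gerb.IsAlgGerbe Scheme.fppfPrecoverage (AlgSt.fullSub 𝒳 Q)) ∧
      T ⊆ closure (Set.range (AlgSt.Points.map (AlgSt.subIncl 𝒳 Q)))) fun T hT => by
    obtain ⟨⟨Q, h₁, h₂, h₃, hA, hd⟩, -⟩ := exists_strata h𝒳 hI hT
    exact ⟨Q, ⟨⟨h₁, h₂, h₃⟩, hd⟩, hA, fun ⟨p, hp⟩ => closure_nonempty_iff.1 ⟨p, hd hp⟩⟩
  refine ⟨I, o, w, Q, T, hT, fun i => (hQ i).1.1, hcov, hc, fun i => ⟨(hQ i).2.1, (hQ i).2.2, ?_⟩⟩
  rw [Subtype.dense_iff, Subtype.image_preimage_coe, Set.inter_eq_right.2 (hQ i).2.1]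
  exact (hQ i).1.2

theorem exists_stratification_qc (h𝒳 : AS 𝒳)
    (hI : AlgSt.IsQuasiCompactMor Scheme.fppfPrecoverage (inertiaToBase (toSelf 𝒳))) :
    ∃ (I : Type (u + 1)) (_ : LinearOrder I) (_ : WellFoundedLT I) (Q : I → 𝒳.obj → Prop)
      (T : I → Set (AlgSt.Points 𝒳)),
      (∀ i, T i = {p | ∀ i', i' < i → p ∉ Set.range (AlgSt.Points.map (AlgSt.subIncl 𝒳 (Q i')))}) ∧
      (∀ i, AlgSt.IsLocClosedSubstack 𝒳 (Q i) Scheme.fppfPrecoverage ∧
        AlgSt.SmoothLocally (fun X => IsReduced X) (AlgSt.fullSub 𝒳 (Q i)) ∧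
        AlgSt.IsQuasiCompact (AlgSt.fullSub 𝒳 (Q i)) ∧
        Gerb.IsAlgGerbe Scheme.fppfPrecoverage (AlgSt.fullSub 𝒳 (Q i))) ∧
      (∀ p : AlgSt.Points 𝒳, ∃ i, p ∈ Set.range (AlgSt.Points.map (AlgSt.subIncl 𝒳 (Q i)))) ∧
      (∀ i, IsClosed (T i)) ∧
      (∀ i, Set.range (AlgSt.Points.map (AlgSt.subIncl 𝒳 (Q i))) ⊆ T i ∧
        IsOpen ((Subtype.val : T i → AlgSt.Points 𝒳) ⁻¹' Set.range (AlgSt.Points.map (AlgSt.subIncl 𝒳 (Q i))))) := by
  obtain ⟨I, o, w, Q, T, hT, hcov, hc, hQ⟩ := exists_peel (fun Q => Set.range (AlgSt.Points.map (AlgSt.subIncl 𝒳 Q)))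
    (fun _ Q => AlgSt.IsLocClosedSubstack 𝒳 Q Scheme.fppfPrecoverage ∧
        AlgSt.SmoothLocally (fun X => IsReduced X) (AlgSt.fullSub 𝒳 Q) ∧
        AlgSt.IsQuasiCompact (AlgSt.fullSub 𝒳 Q) ∧
        Gerb.IsAlgGerbe Scheme.fppfPrecoverage (AlgSt.fullSub 𝒳 Q)) fun T hT => by
    obtain ⟨-, Q, h₁, h₂, h₃, h₄, hA, hne⟩ := exists_strata h𝒳 hI hT
    exact ⟨Q, ⟨h₁, h₂, h₃, h₄⟩, hA, hne⟩
  exact ⟨I, o, w, Q, T, hT, fun i => (hQ i).1, hcov, hc, fun i => (hQ i).2⟩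

theorem resGerbeExists_of_qc (h𝒳 : AS 𝒳)
    (hI : AlgSt.IsQuasiCompactMor Scheme.fppfPrecoverage (inertiaToBase (toSelf 𝒳))) (x : AlgSt.Points 𝒳) :
    Gerb.ResGerbeExists Scheme.fppfPrecoverage 𝒳 x := by
  obtain ⟨I, o, w, Q, T, -, hQ, hcov, -, -⟩ := exists_stratification h𝒳 hI
  obtain ⟨i, x', hx'⟩ := hcov x
  obtain ⟨⟨-, hS, himm⟩, -, X, π, hπ⟩ := hQ i
  obtain ⟨𝒲, g, hW, hg, hne, hsub, hmap⟩ := LocIm.resGerbeExists_of_gerbe hS X π hπ x'
  have hR : RespSrc (MorphismProperty.monomorphisms (AlgSp.Sp S)) := fun _ _ _ _ _ σ a (h : Mono a) =>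
    have := h
    (inferInstance : Mono (σ.hom ≫ a))
  have hj : AlgSt.IsMono (AlgSt.subIncl 𝒳 (Q i)) := repByAlgSpWith_mono (fun _ _ _ _ ha =>
    AlgSpLib.mono_of_repWith (P := @IsImmersion) (fun _ _ g (_ : IsImmersion g) => (inferInstance : Mono g)) ha) himm
  refine ⟨𝒲, BasedFunctor.comp g (AlgSt.subIncl 𝒳 (Q i)), hW,
    repByAlgSpWith_comp_desc hR atlasDescent_mono (fun _ _ _ _ _ _ a b (ha : Mono a) (hb : Mono b) => have := ha; have := hb; (inferInstance : Mono (a ≫ b))) hW.isStack.1 hS.isStack.1 hg hj, hne, hsub,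
    fun z => ?_⟩
  rw [points_map_comp, hmap z, hx']

end Groth.Agent.Stk19b.Rigid
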