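import Groth.Agent.Stk19b.Rigid.Space
import Groth.Agent.Stk19b.OpenSub.Range
import Groth.Agent.Stk19.AlgSt.SepDiag
import Groth.Agent.Stk19.AlgSt.Qc
import Groth.Agent.FlatMorGeneric.Scheme

/-!
# A dense open gerbe in a reduced stack with quasi-compact inertia
-/

set_option autoImplicit false
set_option backward.isDefEq.respectTransparency false
set_option backward.isDefEq.respectTransparency.types false

universe u

open CategoryTheory CategoryTheory.Limits AlgebraicGeometry Opposite FibCat Groth.Agent.Desc19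

noncomputable section

namespace Groth.Agent.Stk19b.Rigid

open Groth.Agent.Stk19

variable {S : Scheme.{u}} {𝒳 𝒴 : AlgSt.Cat S}

local notation "AS" => AlgSt.IsAlgStack Scheme.fppfPrecoverage
local notation "Sm" => AlgSt.RepByAlgSpWith (AlgSp.LocP @Smooth)
local notation "Srj" => AlgSt.RepByAlgSpWith AlgSp.IsSurjectiveMor
local notation "Lt" => AlgSt.RepByAlgSpWith (AlgSp.LocP @LocallyOfFiniteType)

/-- An open of the base as an object over `S`. -/
abbrev openObj (V : Over S) (O : V.left.Opens) : Over S := Over.mk (O.ι ≫ V.hom)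

/-- Its inclusion. -/
abbrev openHom (V : Over S) (O : V.left.Opens) : openObj V O ⟶ V := Over.homMk O.ι

/-- A target-local property holds for all charts over `V` when it does over an open cover. -/
theorem good_of_opens {Q : MorphismProperty Scheme.{u}} (hQ : AlgSpLib.EtLocal Q) [IsZariskiLocalAtTarget Q]
    {f : 𝒳 ⥤ᵇ 𝒴} {V : Over S} (y : overCat V ⥤ᵇ 𝒴) {ι : Type*} (O : ι → V.left.Opens) (hO : ⨆ i, O i = ⊤)
    (h : ∀ i, Good (AlgSp.LocP Q) f (BasedFunctor.comp (AlgSt.overMap (openHom V (O i))) y)) :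
    Good (AlgSp.LocP Q) f y := by
  intro W e k he i
  have := hQ.bc
  refine (locP_yon_iff hQ k).2 (IsZariskiLocalAtTarget.of_iSup_eq_top O hO fun j => ?_)
  obtain ⟨e', ⟨i'⟩, he', -⟩ := exists_chart_baseChange (openHom V (O j)) i
  have hk := (locP_yon_iff hQ _).1 ((good_comp_iff _ y).1 (h j) _ e' _ (he' he) i')
  have sq := ((IsPullback.of_hasPullback k (openHom V (O j))).map (Over.forget S))
  let e₂ := sq.isoIsPullback _ _ (isPullback_morphismRestrict k.left (O j)).flip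
  have he₂ : e₂.hom ≫ (k.left ∣_ (O j)) = (pullback.snd k (openHom V (O j))).left :=
    IsPullback.isoIsPullback_hom_snd _ _ _ _
  rw [← he₂, MorphismProperty.cancel_left_of_respectsIso Q] at hk
  exact hk

/-- The inertia of a full substack is the restriction of the inertia. -/
def inertiaSub (Q : 𝒳.obj → Prop) :
    inertia (toSelf (AlgSt.fullSub 𝒳 Q)) ⥤ᵇ fp (AlgSt.subIncl 𝒳 Q) (inertiaToBase (toSelf 𝒳)) :=
  let L : inertia (toSelf (AlgSt.fullSub 𝒳 Q)) ⥤ᵇ inertia (toSelf 𝒳) :=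
    { toFunctor :=
        { obj := fun t => ⟨t.pt.1, (ObjectProperty.ι Q).mapIso t.aut, t.map_aut⟩
          map := fun φ => ⟨φ.hom.hom, congrArg (fun m => m.hom) φ.comm⟩ }
      w := rfl }
  fpLift (inertiaToBase (toSelf (AlgSt.fullSub 𝒳 Q))) L
    (Iso.refl (BasedFunctor.comp (inertiaToBase (toSelf (AlgSt.fullSub 𝒳 Q))) (AlgSt.subIncl 𝒳 Q)))

theorem isEquivOver_inertiaSub (Q : 𝒳.obj → Prop) : IsEquivOver (inertiaSub Q) := by
  refine EqvData.isEquivOver ⟨⟨fun {s t} k => ?_⟩, ⟨fun {s t} k k' hk => ?_⟩, fun z => ?_⟩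
  · have w : k.hom.fst.hom ≫ 𝟙 _ = 𝟙 _ ≫ k.hom.snd.hom := k.hom.w
    rw [Category.comp_id, Category.id_comp] at w
    refine ⟨⟨k.hom.fst, ObjectProperty.hom_ext _ ?_⟩, fp_hom_ext rfl (InertiaObj.hom_ext w)⟩
    have c := k.hom.snd.comm
    rw [← w] at c
    exact c
  · exact InertiaObj.hom_ext (congrArg (fun m => m.hom.fst) hk :)
  · let i : z.obj.fst.1 ≅ z.obj.snd.pt := z.obj.iso
    let aut : z.obj.fst ≅ z.obj.fst :=
      (ObjectProperty.ι Q).preimageIso (i ≪≫ z.obj.snd.aut ≪≫ i.symm)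
    have ha : (ObjectProperty.ι Q).map aut.hom = i.hom ≫ z.obj.snd.aut.hom ≫ i.inv :=
      (ObjectProperty.ι Q).map_preimage _
    have hz : 𝒳.p.map z.obj.snd.aut.hom = 𝟙 _ := inertia_aut_map z.obj.snd
    have hm : 𝒳.p.map (i.hom ≫ z.obj.snd.aut.hom ≫ i.inv) = 𝟙 _ := by
      rw [𝒳.p.map_comp, 𝒳.p.map_comp, hz, Category.id_comp, ← 𝒳.p.map_comp, i.hom_inv_id, 𝒳.p.map_id]
    let o : (inertia (toSelf (AlgSt.fullSub 𝒳 Q))).obj := ⟨z.obj.fst, aut, (congrArg 𝒳.p.map ha).trans hm⟩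
    let j : ((inertiaSub Q).obj o).obj.snd ≅ z.obj.snd :=
      { hom := ⟨i.hom, by
          show ((ObjectProperty.ι Q).map aut.hom) ≫ i.hom = i.hom ≫ z.obj.snd.aut.hom
          rw [ha]; simp⟩
        inv := ⟨i.inv, by
          show z.obj.snd.aut.hom ≫ i.inv = i.inv ≫ ((ObjectProperty.ι Q).map aut.hom)
          rw [ha]; simp⟩
        hom_inv_id := InertiaObj.hom_ext i.hom_inv_id
        inv_hom_id := InertiaObj.hom_ext i.inv_hom_id }
    refine ⟨o, fpIsoMk (Iso.refl _) j ?_, fpIsoMk_vert _ _ _ (IsHomLift.id rfl)⟩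
    show (ObjectProperty.ι Q).map (𝟙 z.obj.fst) ≫ i.hom = 𝟙 _ ≫ i.hom
    simp

/-- An open substack covered by a chart over which the inertia is flat and finitely presented is a gerbe. -/
theorem isAlgGerbe_inSet (h𝒳 : AS 𝒳) {T : Set (AlgSt.Points 𝒳)} (hT : IsOpen T) {O : Over S}
    {z : overCat O ⥤ᵇ 𝒳} (hz : Sm z) (hzT : Set.range (AlgSt.Points.ofChart z) = T)
    (h₁ : Good (AlgSp.LocP @Flat) (inertiaToBase (toSelf 𝒳)) z)
    (h₂ : Good (AlgSp.LocP @LocallyOfFinitePresentation) (inertiaToBase (toSelf 𝒳)) z) :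
    Gerb.IsAlgGerbe Scheme.fppfPrecoverage (AlgSt.fullSub 𝒳 (inSet T)) := by
  have h := h𝒳.isStack.1
  obtain ⟨hr, hI⟩ := isAlgStack_inertia_self h𝒳
  have hU := (isOpenSubstack_inSet h𝒳 hT).2.1
  obtain ⟨hrU, hIU⟩ := isAlgStack_inertia_self hU
  let I := inertiaToBase (toSelf 𝒳)
  let j := AlgSt.subIncl 𝒳 (inSet T)
  let L : overCat O ⥤ᵇ AlgSt.fullSub 𝒳 (inSet T) :=
    { toFunctor := ObjectProperty.lift _ z.toFunctor fun a => (inSet_chart_iff h z a T).2 fun v => by
        rw [← hzT]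
        exact ⟨_, rfl⟩
      w := z.w }
  have hL : Sm L := repByAlgSpWith_of_comp_ff L j hz
  have hLr : AlgSt.RepByAlgSp1 L := repByAlgSp1_of_with hL
  have hLs : Srj L := with_surjective_of_ofChart hU.isStack.1 hLr fun p => by
    have hp : AlgSt.Points.map j p ∈ T := (Set.ext_iff.1 (range_subIncl_inSet T h) _).1 ⟨p, rfl⟩
    obtain ⟨v, hv⟩ := (Set.ext_iff.1 hzT _).2 hp
    refine ⟨v, points_map_subIncl_injective h (fun _ _ φ hb => inSet_of_hom φ hb) ?_⟩
    rw [← hv]
    exact map_ofChart L j v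
  have hO := isAlgStack_overCat O
  have hA := isAlgStack_fp h𝒳.isStack h𝒳.diag hO hI z I
  have hidS : Srj (BasedFunctor.id (overCat O)) :=
    repByAlgSpWith_of_isEquivOver (isEquivOver_id _) fun G => surjective_id G
  have hid := Gerbe.with_id_overCat AlgSpLib.etLocal_smooth O
  have main : ∀ {Q : MorphismProperty Scheme.{u}}, AlgSpLib.EtLocal Q →
      AlgSp.IsSmoothLocalST (AlgSp.LocP (S := S) Q) → Good (AlgSp.LocP Q) I z →
      AlgSt.LocQ (AlgSp.LocP Q) (inertiaToBase (toSelf (AlgSt.fullSub 𝒳 (inSet T)))) := fun {Q} hQ hsm hg => by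
    have hg' : Good (AlgSp.LocP Q) (fpFst z I) (BasedFunctor.id (overCat O)) :=
      (pcov_equiv (isEquivOver_fpPaste (BasedFunctor.id (overCat O)) z I) (eqToIso (fpPaste_fst _ _ _))).2 hg
    have a₁ : AlgSt.RepByAlgSpWith (AlgSp.LocP Q) (fpFst z I) :=
      with_of_locQ hsm (pbStable_locP hQ) (schDescent_locP hQ) hA hO (repByAlgSp1_fpFst z hr)
        (locQ_of_good hA hO hid hidS hg')
    have a₂ : AlgSt.RepByAlgSpWith (AlgSp.LocP Q) (fpFst L (fpFst j I)) :=
      (repByAlgSpWith_iff_of_square (f' := fpFst L (fpFst j I)) (f := fpFst z I) (a := fpPaste L j I)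
        (b := BasedFunctor.id _) (isEquivOver_fpPaste L j I) (isEquivOver_id _)
        (eqToIso (fpPaste_fst L j I).symm)).2 a₁
    have a₃ := with_of_cover (respSrc_locP hQ) (schDescent_locP hQ) (repByAlgSp1_fpFst j hr)
      (with_flat_of_smooth hL).1 (with_flat_of_smooth hL).2 hLs a₂
    refine locQ_of_with hsm hIU hU ?_
    exact (repByAlgSpWith_iff_of_square (f' := inertiaToBase (toSelf (AlgSt.fullSub 𝒳 (inSet T))))
      (f := fpFst j I) (a := inertiaSub (inSet T)) (b := BasedFunctor.id _) (isEquivOver_inertiaSub _)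
      (isEquivOver_id _) (Iso.refl _)).2 a₃
  exact isAlgGerbe_of_inertia hU (main AlgSpLib.etLocal_flat smST_flat h₁) (main AlgSpLib.etLocal_lfp smST_lfp h₂)

theorem isAlgGerbe_dense (h𝒳 : AS 𝒳) (hred : AlgSt.SmoothLocally (fun T => IsReduced T) 𝒳)
    (hI : AlgSt.IsQuasiCompactMor Scheme.fppfPrecoverage (inertiaToBase (toSelf 𝒳))) :
    ∃ T : Set (AlgSt.Points 𝒳), IsOpen T ∧ Dense T ∧
      Gerb.IsAlgGerbe Scheme.fppfPrecoverage (AlgSt.fullSub 𝒳 (inSet T)) := by
  have h := h𝒳.isStack.1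
  obtain ⟨U, u, hu, hus⟩ := h𝒳.atlas
  have hUr : IsReduced U.left := hred U u hu
  let I := inertiaToBase (toSelf 𝒳)
  obtain ⟨hr, hIA⟩ := isAlgStack_inertia_self h𝒳
  have key : ∀ V : U.left.affineOpens, ∃ O : V.1.toScheme.Opens, Dense (O : Set V.1.toScheme) ∧
      Good (AlgSp.LocP @Flat) I (BasedFunctor.comp (AlgSt.overMap (openHom (openObj U V.1) O ≫ openHom U V.1)) u) ∧
      Good (AlgSp.LocP @LocallyOfFinitePresentation) I
        (BasedFunctor.comp (AlgSt.overMap (openHom (openObj U V.1) O ≫ openHom U V.1)) u) := fun V => by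
    have : IsAffine (openObj U V.1).left := V.2
    have : IsReduced (openObj U V.1).left := inferInstanceAs (IsReduced V.1.toScheme)
    let v := BasedFunctor.comp (AlgSt.overMap (openHom U V.1)) u
    obtain ⟨W, x, hW, hx, hxs⟩ := hI _ (isAlgStack_overCat (openObj U V.1)) (isQuasiCompact_overCat _) v
    obtain ⟨k, ⟨ik⟩⟩ := exists_overMap_iso (BasedFunctor.comp x (fpFst v I))
    have hN := isAlgStack_fp h𝒳.isStack h𝒳.diag (isAlgStack_overCat (openObj U V.1)) hIA v I
    have hxl : Lt x := repByAlgSpWith_mono (fun _ _ _ _ ha =>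
      AlgSpLib.locP_mono (Q := @LocallyOfFiniteType) (fun _ _ g (hg : Smooth g) => inferInstance) ha) hx
    have hkl : LocallyOfFiniteType k.left := Gerbe.prop_of_with_overMap AlgSpLib.etLocal_lft
      (repByAlgSpWith_of_iso ik (with_comp_locP AlgSpLib.etLocal_lft hN.isStack.1 hxl
        (repByAlgSpWith_fpFst v (inertia_with_of_diag (diag_toSelf_lft h𝒳)))))
    have : IsAffineHom k.left := isAffineHom_of_isAffine _
    have : QuasiCompact k.left := inferInstance
    obtain ⟨O, hO, hf, hp⟩ := FlatMorGeneric.exists_dense_flat_lfp k.left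
    refine ⟨O, hO, ?_⟩
    obtain ⟨e', ⟨i'⟩, he', hes'⟩ := exists_chart_baseChange (openHom (openObj U V.1) O) ik
    let o := openHom (openObj U V.1) O
    have hN' := isAlgStack_fp (isAlgStack_overCat (openObj U V.1)).isStack (isAlgStack_overCat (openObj U V.1)).diag
      (isAlgStack_overCat (openObj (openObj U V.1) O)) hN (AlgSt.overMap o) (fpFst v I)
    have sq := ((IsPullback.of_hasPullback k o).map (Over.forget S))
    let e₂ := sq.isoIsPullback _ _ (isPullback_morphismRestrict k.left O).flip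
    have he₂ : e₂.hom ≫ (k.left ∣_ O) = (pullback.snd k o).left := IsPullback.isoIsPullback_hom_snd _ _ _ _
    obtain ⟨jc⟩ := overMap_comp o (openHom U V.1)
    have gen : ∀ {Q : MorphismProperty Scheme.{u}}, AlgSpLib.EtLocal Q →
        AlgSp.IsSmoothLocalST (AlgSp.LocP (S := S) Q) → Q (pullback.snd k o).left →
        Good (AlgSp.LocP Q) I (BasedFunctor.comp (AlgSt.overMap (o ≫ openHom U V.1)) u) := fun {Q} hQ hsm hk => by
      have := hQ.bc
      have g1 : Good (AlgSp.LocP Q) I (BasedFunctor.comp (AlgSt.overMap o) v) :=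
        (good_comp_iff o v).2 (pcov_of_one hsm hN'.isStack.1 (he' hx) (ofChart_surjective hN'.isStack.1 (hes' hxs))
          i' ((locP_yon_iff hQ _).2 hk))
      exact good_congr ((postB _ u).mapIso jc) g1
    refine ⟨gen AlgSpLib.etLocal_flat smST_flat ?_, gen AlgSpLib.etLocal_lfp smST_lfp ?_⟩
    · rw [← he₂]; infer_instance
    · rw [← he₂]; infer_instance
  choose O hOd hOf hOp using key
  let O' : U.left.Opens := ⨆ V : U.left.affineOpens, V.1.ι ''ᵁ (O V)
  let z := BasedFunctor.comp (AlgSt.overMap (openHom U O')) u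
  have hz : Sm z := with_comp_chart AlgSpLib.etLocal_smooth _ (inferInstanceAs (Smooth O'.ι)) hu
  have hd : Dense (O' : Set U.left) := by
    refine dense_iff_inter_open.2 fun A hA ⟨a, ha⟩ => ?_
    obtain ⟨V, hV, haV, -⟩ := exists_isAffineOpen_mem_and_subset (x := a) (U := (⊤ : U.left.Opens)) trivial
    obtain ⟨b, hbA, hbO⟩ := (hOd ⟨V, hV⟩).inter_open_nonempty (V.ι ⁻¹' A) (hA.preimage V.ι.continuous)
      ⟨⟨a, haV⟩, ha⟩
    exact ⟨V.ι b, hbA, TopologicalSpace.Opens.mem_iSup.2 ⟨⟨V, hV⟩, b, hbO, rfl⟩⟩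
  have hzr : Set.range (AlgSt.Points.ofChart z) = AlgSt.Points.ofChart u '' (O' : Set U.left) := by
    ext p
    constructor
    · rintro ⟨v, rfl⟩
      exact ⟨O'.ι v, v.2, (ofChart_overMap (openHom U O') u v).symm⟩
    · rintro ⟨w, hw, rfl⟩
      exact ⟨(⟨w, hw⟩ : O'.toScheme), ofChart_overMap (openHom U O') u (⟨w, hw⟩ : O'.toScheme)⟩
  refine ⟨_, (isOpenMap_ofChart_smooth h hu) _ O'.isOpen, ?_,
    isAlgGerbe_inSet h𝒳 ((isOpenMap_ofChart_smooth h hu) _ O'.isOpen) hz hzr ?_ ?_⟩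
  · exact (Function.Surjective.denseRange (ofChart_surjective h hus)).dense_image (continuous_ofChart h𝒳 u) hd
  all_goals
    refine good_of_opens (by first | exact AlgSpLib.etLocal_flat | exact AlgSpLib.etLocal_lfp) z
      (fun V : U.left.affineOpens => O'.ι ⁻¹ᵁ (V.1.ι ''ᵁ (O V))) ?_ fun V => ?_
    · rw [← Scheme.Hom.preimage_iSup]; exact O'.ι_preimage_self
    have hle : V.1.ι ''ᵁ (O V) ≤ O' := le_iSup (fun V : U.left.affineOpens => V.1.ι ''ᵁ (O V)) V
    let P := openObj (openObj U O') (O'.ι ⁻¹ᵁ (V.1.ι ''ᵁ (O V)))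
    let q : P ⟶ U := openHom (openObj U O') (O'.ι ⁻¹ᵁ (V.1.ι ''ᵁ (O V))) ≫ openHom U O'
    let q' := openHom (openObj U V.1) (O V) ≫ openHom U V.1
    have hq' : IsOpenImmersion q'.left := inferInstanceAs (IsOpenImmersion ((O V).ι ≫ V.1.ι))
    have hr' : Set.range q.left ⊆ Set.range q'.left := by
      rintro _ ⟨w, rfl⟩
      obtain ⟨b, hb, hbw⟩ := w.2
      exact ⟨⟨b, hb⟩, hbw⟩
    let l : P ⟶ openObj (openObj U V.1) (O V) := Over.homMk (IsOpenImmersion.lift q'.left q.left hr') (by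
      show IsOpenImmersion.lift q'.left q.left hr' ≫ (openObj (openObj U V.1) (O V)).hom = _
      rw [← Over.w q', ← Category.assoc, IsOpenImmersion.lift_fac]
      exact Over.w q)
    have hl : l ≫ q' = q := Over.OverMorphism.ext (IsOpenImmersion.lift_fac _ _ _)
    obtain ⟨jl⟩ := overMap_comp l q'
    obtain ⟨jq⟩ := overMap_comp (openHom (openObj U O') (O'.ι ⁻¹ᵁ (V.1.ι ''ᵁ (O V)))) (openHom U O')
    refine good_congr (?_ : BasedFunctor.comp (AlgSt.overMap l) (BasedFunctor.comp (AlgSt.overMap q') u) ≅ _) ?_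
    · exact (postB _ u).mapIso (jl ≪≫ eqToIso (congrArg AlgSt.overMap hl) ≪≫ jq.symm)
    refine good_comp (by first | exact smST_flat | exact smST_lfp) hIA h𝒳 l (fun G g hg => ?_)
      (by first | exact hOf V | exact hOp V)
    first
      | exact pbStable_locP AlgSpLib.etLocal_flat (AlgSp.IsAlgSpace.yon_obj _) (AlgSp.IsAlgSpace.yon_obj _) (AlgSp.IsAlgSpace.yon_obj _)
          (AlgSp.IsAlgSpace.yon_obj _) _ _ _ _ ((IsPullback.of_hasPullback g l).map (AlgSp.yon S)) hg
      | exact pbStable_locP AlgSpLib.etLocal_lfp (AlgSp.IsAlgSpace.yon_obj _) (AlgSp.IsAlgSpace.yon_obj _) (AlgSp.IsAlgSpace.yon_obj _)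
          (AlgSp.IsAlgSpace.yon_obj _) _ _ _ _ ((IsPullback.of_hasPullback g l).map (AlgSp.yon S)) hg

end Groth.Agent.Stk19b.Rigid
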