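import Groth.Agent.Stk19b.LocIm.Basic

/-!
# The sheaf of isomorphism classes of a category fibred in groupoids
-/

set_option autoImplicit false
set_option backward.isDefEq.respectTransparency false
set_option backward.isDefEq.respectTransparency.types false

universe u

open CategoryTheory CategoryTheory.Limits AlgebraicGeometry Opposite FibCat Groth.Agent.Desc19

noncomputable section

namespace Groth.Agent.Stk19b.Rigid

open Groth.Agent.Stk19

variable {S : Scheme.{u}} {𝒳 : AlgSt.Cat S}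

/-- Vertical isomorphism of objects over a fixed base. -/
def clsSetoid (h : IsFibGrpd 𝒳.p) (T : Over S) : Setoid {y : 𝒳.obj // 𝒳.p.obj y = T} where
  r a b := ∃ φ : a.1 ⟶ b.1, 𝒳.p.IsHomLift (𝟙 T) φ
  iseqv :=
    { refl := fun a => ⟨𝟙 _, IsHomLift.id a.2⟩
      symm := fun {a b} ⟨φ, hφ⟩ => by
        have := fibGrpd_isIso_vert h (R := T) φ
        exact ⟨inv φ, inferInstance⟩
      trans := fun {a b c} ⟨φ, hφ⟩ ⟨ψ, hψ⟩ => ⟨φ ≫ ψ, inferInstance⟩ }

/-- Classes of objects over `T`. -/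
abbrev IsoCls (h : IsFibGrpd 𝒳.p) (T : Over S) : Type (u + 1) := Quotient (clsSetoid h T)

/-- The class of an object. -/
abbrev cls (h : IsFibGrpd 𝒳.p) {T : Over S} (y : 𝒳.obj) (e : 𝒳.p.obj y = T) : IsoCls h T :=
  Quotient.mk _ ⟨y, e⟩

variable (h : IsFibGrpd 𝒳.p)

theorem cls_eq_of_vert {T : Over S} {y y' : 𝒳.obj} (φ : y ⟶ y') [hφ : 𝒳.p.IsHomLift (𝟙 T) φ] :
    cls h y (IsHomLift.domain_eq 𝒳.p (𝟙 T) φ) = cls h y' (IsHomLift.codomain_eq 𝒳.p (𝟙 T) φ) :=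
  Quotient.sound ⟨φ, hφ⟩

include h in
theorem exists_vert_of_pullbacks {B T : Over S} {f : B ⟶ T} {y y' z z' : 𝒳.obj} (g : z ⟶ y) (g' : z' ⟶ y')
    (hg : 𝒳.p.IsHomLift f g) (hg' : 𝒳.p.IsHomLift f g') (φ : y ⟶ y') (hφ : 𝒳.p.IsHomLift (𝟙 T) φ) :
    ∃ κ : z ⟶ z', 𝒳.p.IsHomLift (𝟙 B) κ := by
  have h1 := IsHomLift.fac' 𝒳.p f g
  have h2 := IsHomLift.fac' 𝒳.p f g'
  have h3 := IsHomLift.fac' 𝒳.p (𝟙 T) φ
  have ez : 𝒳.p.obj z = B := IsHomLift.domain_eq 𝒳.p f g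
  have ez' : 𝒳.p.obj z' = B := IsHomLift.domain_eq 𝒳.p f g'
  obtain ⟨κ, ⟨hκ, -⟩, -⟩ := fibGrpd_fac h g' (g ≫ φ) (eqToHom (ez.trans ez'.symm)) (by
    rw [𝒳.p.map_comp, h1, h2, h3]; simp)
  exact ⟨κ, vert_change 𝒳.p _ (vert_of_map_eq 𝒳.p hκ) ez⟩

include h in
/-- A chosen pullback. -/
theorem exists_pullback {T B : Over S} (f : B ⟶ T) (y : 𝒳.obj) (e : 𝒳.p.obj y = T) :
    ∃ z : {z : 𝒳.obj // 𝒳.p.obj z = B}, ∃ g : z.1 ⟶ y, 𝒳.p.IsHomLift f g := by
  obtain ⟨z, g, ez, hg⟩ := fibGrpd_lift h y (f ≫ eqToHom e.symm)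
  exact ⟨⟨z, ez⟩, g, lift_mk _ ez e (by rw [hg])⟩

/-- Restriction of classes. -/
def clsMap {T B : Over S} (f : B ⟶ T) : IsoCls h T → IsoCls h B :=
  Quotient.lift (fun a => Quotient.mk _ (exists_pullback h f a.1 a.2).choose) fun a a' ⟨φ, hφ⟩ =>
    Quotient.sound (exists_vert_of_pullbacks h _ _ (exists_pullback h f a.1 a.2).choose_spec.choose_spec
      (exists_pullback h f a'.1 a'.2).choose_spec.choose_spec φ hφ)

theorem clsMap_cls {T B : Over S} (f : B ⟶ T) {y z : 𝒳.obj} (g : z ⟶ y) (e : 𝒳.p.obj y = T)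
    (ez : 𝒳.p.obj z = B) (hg : 𝒳.p.IsHomLift f g) : clsMap h f (cls h y e) = cls h z ez :=
  Quotient.sound (exists_vert_of_pullbacks h _ g (exists_pullback h f y e).choose_spec.choose_spec hg (𝟙 y)
    (IsHomLift.id e))

/-- The presheaf of classes. -/
def clsPsh : (Over S)ᵒᵖ ⥤ Type (u + 1) where
  obj T := IsoCls h T.unop
  map {T B} f := TypeCat.ofHom (clsMap h f.unop)
  map_id T := by
    ext x
    induction x using Quotient.inductionOn with
    | h a => exact clsMap_cls h _ (𝟙 a.1) a.2 a.2 (IsHomLift.id a.2)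
  map_comp {T B C} f f' := by
    ext x
    induction x using Quotient.inductionOn with
    | h a =>
      obtain ⟨⟨z, ez⟩, g, hg⟩ := exists_pullback h f.unop a.1 a.2
      obtain ⟨⟨z', ez'⟩, g', hg'⟩ := exists_pullback h f'.unop z ez
      refine (clsMap_cls h _ (g' ≫ g) a.2 ez' (show 𝒳.p.IsHomLift (f'.unop ≫ f.unop) (g' ≫ g) from inferInstance)).trans ?_
      show _ = clsMap h f'.unop (clsMap h f.unop (cls h a.1 a.2))
      rw [clsMap_cls h f.unop g a.2 ez hg, clsMap_cls h f'.unop g' ez ez' hg']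

theorem clsPsh_map_cls {T B : Over S} (f : B ⟶ T) {y z : 𝒳.obj} (g : z ⟶ y) (e : 𝒳.p.obj y = T)
    (ez : 𝒳.p.obj z = B) (hg : 𝒳.p.IsHomLift f g) : (clsPsh h).map f.op (cls h y e) = cls h z ez :=
  clsMap_cls h f g e ez hg

/-- The sheaf of isomorphism classes. -/
def rigid : AlgSp.Sp S := (presheafToSheaf (AlgSp.J S) (Type (u + 1))).obj (clsPsh h)

/-- The unit. -/
def rigidη : clsPsh h ⟶ (rigid h).obj := toSheafify (AlgSp.J S) (clsPsh h)

instance : Presheaf.IsLocallyInjective (AlgSp.J S) (rigidη h) := by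
  delta rigidη; infer_instance

instance : Presheaf.IsLocallySurjective (AlgSp.J S) (rigidη h) := by
  delta rigidη; infer_instance

/-- The functor to the sheaf of isomorphism classes. -/
def rigidπ : 𝒳 ⥤ᵇ AlgSt.ofSp (rigid h) where
  toFunctor :=
    { obj := fun y => ⟨𝒳.p.obj y, (rigidη h).app (op (𝒳.p.obj y)) (cls h y rfl)⟩
      map := fun {a b} g => ⟨𝒳.p.map g, by
        show (rigid h).obj.map (𝒳.p.map g).op ((rigidη h).app _ (cls h b rfl)) = _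
        rw [← NatTrans.naturality_apply, clsPsh_map_cls h (𝒳.p.map g) g rfl rfl inferInstance]⟩
      map_id := fun a => Stk.EltObj.Hom.ext (𝒳.p.map_id a)
      map_comp := fun f g => Stk.EltObj.Hom.ext (𝒳.p.map_comp f g) }
  w := rfl

theorem isGerbeOver_rigidπ : Gerb.IsGerbeOver (AlgSp.J S) (rigidπ h) := by
  refine ⟨fun y => ?_, fun x x' b hb => ?_⟩
  · refine ⟨Presheaf.imageSieve (rigidη h) y.sec, Presheaf.imageSieve_mem (AlgSp.J S) (rigidη h) y.sec, ?_⟩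
    rintro B f ⟨t, ht⟩
    induction t using Quotient.inductionOn with
    | h a =>
      obtain ⟨a, (ea : 𝒳.p.obj a = B)⟩ := a
      cases ea
      exact ⟨a, ⟨f, ht.symm⟩, lift_mk _ rfl rfl (by
        show f = _
        simp)⟩
  · obtain ⟨T, hT, hbm⟩ : ∃ hT : 𝒳.p.obj x' = 𝒳.p.obj x, ∃ _ : True, b.hom = eqToHom hT.symm := by
      obtain ⟨-, e, he⟩ := (vert_iff (AlgSt.ofSp (rigid h)).p b).1 hb
      exact ⟨e.symm, trivial, he⟩
    have hs := b.map_sec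
    rw [hbm] at hs
    change (rigid h).obj.map (eqToHom T.symm).op ((rigidη h).app _ (cls h x' rfl)) =
      (rigidη h).app _ (cls h x rfl) at hs
    obtain ⟨z', g', ez', hg'⟩ := fibGrpd_lift h x' (eqToHom T.symm)
    rw [← NatTrans.naturality_apply, clsPsh_map_cls h (eqToHom T.symm) g' rfl ez'
      (lift_mk _ ez' rfl (by rw [hg']; simp))] at hs
    refine ⟨_, Presheaf.equalizerSieve_mem (AlgSp.J S) (rigidη h) (cls h z' ez') (cls h x rfl) hs, ?_⟩
    intro B f hf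
    obtain ⟨⟨z, ez⟩, g, hg⟩ := exists_pullback h f z' ez'
    obtain ⟨⟨w, ew⟩, g₂, hg₂⟩ := exists_pullback h f x rfl
    have hf' : clsMap h f (cls h z' ez') = clsMap h f (cls h x rfl) := hf
    rw [clsMap_cls h f g ez' ez hg, clsMap_cls h f g₂ rfl ew hg₂] at hf'
    obtain ⟨κ, hκ⟩ := Quotient.exact hf'
    refine ⟨z, κ ≫ g₂, g ≫ g', inferInstance, lift_mk _ ez T ?_, Stk.EltObj.Hom.ext ?_⟩
    · rw [𝒳.p.map_comp, hg', IsHomLift.fac' 𝒳.p f g]; simp
    · show 𝒳.p.map (κ ≫ g₂) ≫ b.hom = 𝒳.p.map (g ≫ g')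
      rw [hbm, 𝒳.p.map_comp, 𝒳.p.map_comp, hg', IsHomLift.fac' 𝒳.p (𝟙 B) κ, IsHomLift.fac' 𝒳.p f g₂,
        IsHomLift.fac' 𝒳.p f g]
      simp

end Groth.Agent.Stk19b.Rigid
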