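import Groth.Agent.Stk19b.Rigid.Basic
import Groth.Agent.Stk19b.LocIm.Space
import Groth.Agent.Stk19.AlgSt.InertiaSep

/-!
# A chart of the sheaf of isomorphism classes when the inertia is flat and of finite presentation
-/

set_option autoImplicit false
set_option backward.isDefEq.respectTransparency false
set_option backward.isDefEq.respectTransparency.types false

universe u

open CategoryTheory CategoryTheory.Limits AlgebraicGeometry Opposite FibCat Groth.Agent.Desc19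

noncomputable section

namespace Groth.Agent.Stk19b.Rigid

open Groth.Agent.Stk19

variable {S : Scheme.{u}} {𝒳 : AlgSt.Cat S}

local notation "AS" => AlgSt.IsAlgStack Scheme.fppfPrecoverage
local notation "Fl" => AlgSt.RepByAlgSpWith (AlgSp.LocP @Flat)
local notation "Lp" => AlgSt.RepByAlgSpWith (AlgSp.LocP @LocallyOfFinitePresentation)

/-- The class map on sections of a chart. -/
def rigidQPsh (h : IsFibGrpd 𝒳.p) {U : Over S} (u : overCat U ⥤ᵇ 𝒳) :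
    ((AlgSp.yon S).obj U).obj ⟶ clsPsh h where
  app B := TypeCat.ofHom fun s => cls h (u.obj (Over.mk s.down)) (u.w_obj _)
  naturality B C f := by
    ext s
    obtain ⟨s⟩ := s
    let φ : Over.mk (f.unop ≫ s) ⟶ Over.mk s := Over.homMk f.unop rfl
    exact (clsPsh_map_cls h f.unop (u.map φ) (u.w_obj (Over.mk s)) (u.w_obj (Over.mk (f.unop ≫ s)))
      (lift_mk _ (u.w_obj (Over.mk (f.unop ≫ s))) (u.w_obj (Over.mk s)) (by rw [based_map u φ]; simp [φ]))).symm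

/-- The chart of the sheaf of classes. -/
def rigidQ (h : IsFibGrpd 𝒳.p) {U : Over S} (u : overCat U ⥤ᵇ 𝒳) : (AlgSp.yon S).obj U ⟶ rigid h :=
  ⟨rigidQPsh h u ≫ rigidη h⟩

theorem rigidQ_app (h : IsFibGrpd 𝒳.p) {U : Over S} (u : overCat U ⥤ᵇ 𝒳) {B : Over S} (a : B ⟶ U) :
    (rigidQ h u).hom.app (op B) ⟨a⟩ = (rigidη h).app (op B) (cls h (u.obj (Over.mk a)) (u.w_obj _)) := rfl

theorem epi_rigidQ (h : IsFibGrpd 𝒳.p) {U : Over S} {u : overCat U ⥤ᵇ 𝒳}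
    (hu : Gerb.LocSurjObj (AlgSp.J S) u) : Epi (rigidQ h u) := by
  have : Presheaf.IsLocallySurjective (AlgSp.J S) (rigidQPsh h u) := ⟨fun {B} t => by
    induction t using Quotient.inductionOn with
    | h a =>
      obtain ⟨y, (ey : 𝒳.p.obj y = B)⟩ := a
      cases ey
      obtain ⟨R, hR, hx⟩ := hu y
      refine (AlgSp.J S).superset_covering (fun C f hf => ?_) hR
      obtain ⟨x, g, hg⟩ := hx f hf
      have ex : x.left = C := (u.w_obj x).symm.trans (IsHomLift.domain_eq 𝒳.p f g)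
      cases ex
      exact ⟨⟨x.hom⟩, (clsPsh_map_cls h f g rfl (u.w_obj x) hg).symm⟩⟩
  have : Sheaf.IsLocallySurjective (rigidQ h u) :=
    inferInstanceAs (Presheaf.IsLocallySurjective (AlgSp.J S) (rigidQPsh h u ≫ rigidη h))
  exact Sheaf.epi_of_isLocallySurjective _

/-- Two points of the chart with the same class are locally isomorphic. -/
theorem exists_vert_of_rigidQ_eq (h : IsFibGrpd 𝒳.p) {U : Over S} (u : overCat U ⥤ᵇ 𝒳) {B : Over S} {a b : B ⟶ U}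
    (e : (AlgSp.yon S).map a ≫ rigidQ h u = (AlgSp.yon S).map b ≫ rigidQ h u) :
    ∃ R ∈ (AlgSp.J S) B, ∀ ⦃C : Over S⦄ (f : C ⟶ B), R f →
      ∃ κ : u.obj (Over.mk (f ≫ a)) ⟶ u.obj (Over.mk (f ≫ b)), 𝒳.p.IsHomLift (𝟙 C) κ := by
  have e' : (rigidQ h u).hom.app (op B) ⟨𝟙 B ≫ a⟩ = (rigidQ h u).hom.app (op B) ⟨𝟙 B ≫ b⟩ :=
    congrArg (fun m : (AlgSp.yon S).obj B ⟶ rigid h => m.hom.app (op B) ⟨𝟙 B⟩) e
  rw [Category.id_comp, Category.id_comp] at e'
  refine ⟨_, Presheaf.equalizerSieve_mem (AlgSp.J S) (rigidη h) ((rigidQPsh h u).app (op B) ⟨a⟩)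
    ((rigidQPsh h u).app (op B) ⟨b⟩) e', fun C f hf => ?_⟩
  have hf' : (clsPsh h).map f.op ((rigidQPsh h u).app (op B) ⟨a⟩) =
      (clsPsh h).map f.op ((rigidQPsh h u).app (op B) ⟨b⟩) := hf
  rw [← NatTrans.naturality_apply, ← NatTrans.naturality_apply] at hf'
  exact Quotient.exact hf'

theorem mono_pullback_prodLift {U : Over S} {F : AlgSp.Sp S} (q : (AlgSp.yon S).obj U ⟶ F) :
    ∃ ι : pullback q q ⟶ (AlgSp.yon S).obj (U ⨯ U), Mono ι ∧
      ι ≫ (AlgSp.yon S).map prod.fst = pullback.fst q q ∧ ι ≫ (AlgSp.yon S).map prod.snd = pullback.snd q q := by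
  let c := prodComparison (AlgSp.yon S) U U
  let ι := prod.lift (pullback.fst q q) (pullback.snd q q) ≫ inv c
  have h1 : ι ≫ (AlgSp.yon S).map prod.fst = pullback.fst q q := by
    rw [Category.assoc, inv_prodComparison_map_fst, prod.lift_fst]
  have h2 : ι ≫ (AlgSp.yon S).map prod.snd = pullback.snd q q := by
    rw [Category.assoc, inv_prodComparison_map_snd, prod.lift_snd]
  refine ⟨ι, ⟨fun a b e => pullback.hom_ext ?_ ?_⟩, h1, h2⟩
  · exact h1 ▸ (Category.assoc a ι _).symm.trans ((congrArg (· ≫ _) e).trans (Category.assoc b ι _))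
  · exact h2 ▸ (Category.assoc a ι _).symm.trans ((congrArg (· ≫ _) e).trans (Category.assoc b ι _))

/-- Base change of a representing space of a general fibre product. -/
theorem witness_pullback' {𝒵 𝒴 : AlgSt.Cat S} {V : Over S} (y : overCat V ⥤ᵇ 𝒴) {T : Over S} (c : T ⟶ V)
    (f : 𝒵 ⥤ᵇ 𝒴) {X P : AlgSp.Sp S} {e : AlgSt.ofSp X ⥤ᵇ fp y f} (he : IsEquivOver e) {fst : P ⟶ X}
    {snd : P ⟶ (AlgSp.yon S).obj T}
    (sq : IsPullback fst snd (AlgSt.spMapOfOver (BasedFunctor.comp e (fpFst y f))) ((AlgSp.yon S).map c)) :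
    ∃ E : AlgSt.ofSp P ⥤ᵇ fp (BasedFunctor.comp (AlgSt.overMap c) y) f, IsEquivOver E ∧
      AlgSt.spMapOfOver (BasedFunctor.comp E (fpFst _ _)) = snd := by
  obtain ⟨E₀, hE₀, hE₀f, -⟩ := exists_fp_equiv sq.flip
  obtain ⟨iF⟩ := spMapOfOver_iso (BasedFunctor.comp e (fpFst y f))
  obtain ⟨hfull, hfaith, -⟩ := EqvData.of_isEquivOver (isEquivOver_toOverCat V)
  let E₁ : fp (AlgSt.ofSpMap ((AlgSp.yon S).map c))
      (AlgSt.ofSpMap (AlgSt.spMapOfOver (BasedFunctor.comp e (fpFst y f)))) ⥤ᵇ fp (AlgSt.overMap c) (fpFst y f) :=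
    fpMap (AlgSt.toOverCat T) e (AlgSt.toOverCat V) (Iso.refl _) iF.symm
  have hE₁ : IsEquivOver E₁ := isEquivOver_fpMap _ _ _ _ _ (isEquivOver_toOverCat T) he
  refine ⟨BasedFunctor.comp (BasedFunctor.comp E₀ E₁) (fpPaste (AlgSt.overMap c) y f),
    isEquivOver_comp (isEquivOver_comp hE₀ hE₁) (isEquivOver_fpPaste _ _ _), ?_⟩
  show AlgSt.spMapOfOver (BasedFunctor.comp (BasedFunctor.comp E₀ (fpFst _ _)) (AlgSt.toOverCat T)) = snd
  rw [hE₀f, spMapOfOver_ofSpMap_comp, spMapOfOver_toOverCat, Category.comp_id]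

/-- A witness of a base change which locally lifts to the source has the properties of the self base change. -/
theorem props_of_lift {𝒴 : AlgSt.Cat S} {Δ : 𝒳 ⥤ᵇ 𝒴} {T W : Over S} {v : overCat T ⥤ᵇ 𝒴} (c : W ⟶ T)
    [Flat c.left] [LocallyOfFinitePresentation c.left] [Surjective c.left] (x : overCat W ⥤ᵇ 𝒳)
    (i : BasedFunctor.comp (AlgSt.overMap c) v ≅ BasedFunctor.comp x Δ) {X : AlgSp.Sp S} (hX : AlgSp.IsAlgSpace X)
    {e : AlgSt.ofSp X ⥤ᵇ fp v Δ} (he : IsEquivOver e)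
    (hfl : Fl (fpFst Δ Δ)) (hlp : Lp (fpFst Δ Δ)) :
    AlgSp.IsSurjectiveMor (AlgSt.spMapOfOver (BasedFunctor.comp e (fpFst v Δ))) ∧
      AlgSp.LocP @Flat (AlgSt.spMapOfOver (BasedFunctor.comp e (fpFst v Δ))) ∧
      AlgSp.LocP @LocallyOfFinitePresentation (AlgSt.spMapOfOver (BasedFunctor.comp e (fpFst v Δ))) := by
  let a := AlgSt.spMapOfOver (BasedFunctor.comp e (fpFst v Δ))
  obtain ⟨E, hE, hEf⟩ := witness_pullback' v c Δ he (IsPullback.of_hasPullback a ((AlgSp.yon S).map c))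
  have hP := isAlgSpace_pullback_yon (Z := ⟨_, AlgSp.IsAlgSpace.yon_obj T⟩) (V := ⟨X, hX⟩) a ((AlgSp.yon S).map c)
  have loc : ∀ {Q : MorphismProperty Scheme.{u}}, AlgSpLib.EtLocal Q →
      AlgSt.RepByAlgSpWith (AlgSp.LocP Q) (fpFst Δ Δ) → AlgSp.LocP Q a := fun {Q} hQ hw => by
    obtain ⟨E₁, hE₁, hE₁f, -⟩ := exists_congr (F := BasedFunctor.comp x Δ) (G := Δ) i.symm (Iso.refl _)
    obtain ⟨F', e', he', hp⟩ := witness_transfer (isEquivOver_comp (isEquivOver_fpPaste x Δ Δ) hE₁)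
      (q' := fpFst (BasedFunctor.comp (AlgSt.overMap c) v) Δ)
      (eqToIso (show BasedFunctor.comp (fpPaste x Δ Δ) (BasedFunctor.comp E₁ (fpFst _ Δ)) = _ by
        rw [hE₁f, fpPaste_fst])) (hw W x)
    have h2 := repWith_any (F := F') (F' := ⟨_, hP⟩) (respSrc_locP hQ) he' hp E hE
    rw [hEf] at h2
    exact schDescent_locP hQ (V := ⟨X, hX⟩) a c inferInstance inferInstance inferInstance h2
  refine ⟨?_, loc AlgSpLib.etLocal_flat hfl, loc AlgSpLib.etLocal_lfp hlp⟩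
  obtain ⟨G, hG, -, ⟨cG⟩⟩ := exists_inverse he
  let L : overCat W ⥤ᵇ fp v Δ := fpLift (AlgSt.overMap c) x i
  let σ : (AlgSp.yon S).obj W ⟶ X := spHom (BasedFunctor.comp (AlgSt.toOverCat W) (BasedFunctor.comp L G))
  have key : σ ≫ a = (AlgSp.yon S).map c := by
    rw [← spMapOfOver_comp]
    have j : BasedFunctor.comp (BasedFunctor.comp (AlgSt.toOverCat W) (BasedFunctor.comp L G))
        (BasedFunctor.comp e (fpFst v Δ)) ≅ BasedFunctor.comp (AlgSt.toOverCat W) (AlgSt.overMap c) :=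
      (Stk.restr (BasedFunctor.comp (AlgSt.toOverCat W) L) _).mapIso ((postB _ (fpFst v Δ)).mapIso cG) ≪≫ Iso.refl _
    rw [spMapOfOver_congr j.hom, spMapOfOver_overMap, spMapOfOver_toOverCat, Category.id_comp]
  intro q
  obtain ⟨r, hr⟩ := surjective_yon (c := c) c.left.surjective q
  exact ⟨AlgSp.Points.map σ r, by rw [← AlgSp.Points.map_comp, key]; exact hr⟩

/-- The pairing of the two projections of a square of an atlas. -/
def pairU {U : Over S} (u : overCat U ⥤ᵇ 𝒳) : overCat (U ⨯ U) ⥤ᵇ fp (toSelf 𝒳) (toSelf 𝒳) :=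
  pairSelf (BasedFunctor.comp (AlgSt.overMap prod.fst) u) (BasedFunctor.comp (AlgSt.overMap prod.snd) u)

/-- A space of isomorphisms between the two points of a chart has equal classes. -/
theorem isom_space_eq (h : IsFibGrpd 𝒳.p) {U : Over S} (u : overCat U ⥤ᵇ 𝒳) {X : AlgSp.Sp S}
    (e : AlgSt.ofSp X ⥤ᵇ fp (pairU u) (FibCat.diag (toSelf 𝒳))) :
    (AlgSt.spMapOfOver (BasedFunctor.comp e (fpFst _ _)) ≫ (AlgSp.yon S).map prod.fst) ≫ rigidQ h u =
      (AlgSt.spMapOfOver (BasedFunctor.comp e (fpFst _ _)) ≫ (AlgSp.yon S).map prod.snd) ≫ rigidQ h u := by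
  obtain ⟨iF⟩ := spMapOfOver_iso (BasedFunctor.comp e (fpFst _ _))
  apply ObjectProperty.hom_ext
  ext B s
  obtain ⟨B⟩ := B
  let o : (AlgSt.ofSp X).obj := ⟨B, s⟩
  let a₀ := AlgSt.spMapOfOver (BasedFunctor.comp e (fpFst (pairU u) (FibCat.diag (toSelf 𝒳))))
  let b : (overCat (U ⨯ U)).obj := Over.mk (a₀.hom.app (op B) s).down
  let η := e.obj o
  let μ : (pairU u).obj b ⟶ (FibCat.diag (toSelf 𝒳)).obj η.obj.snd :=
    (pairU u).map (iF.inv.toNatTrans.app o) ≫ η.obj.iso.hom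
  obtain ⟨hμ₀, eμ, hμ⟩ : ∃ _ : True, ∃ eb : (fp (toSelf 𝒳) (toSelf 𝒳)).p.obj ((pairU u).obj b) =
      (fp (toSelf 𝒳) (toSelf 𝒳)).p.obj ((FibCat.diag (toSelf 𝒳)).obj η.obj.snd),
      (fp (toSelf 𝒳) (toSelf 𝒳)).p.map μ = eqToHom eb := by
    have h1 : (fp (toSelf 𝒳) (toSelf 𝒳)).p.IsHomLift (𝟙 B) μ := by
      have h2 : (overCat (U ⨯ U)).p.IsHomLift (𝟙 B) (iF.inv.toNatTrans.app o) := iF.inv.isHomLift rfl
      have h3 := fp_iso_vert η
      have h4 := BasedFunctor.preserves_isHomLift (pairU u) (𝟙 B) (iF.inv.toNatTrans.app o)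
      have h5 : (fp (toSelf 𝒳) (toSelf 𝒳)).p.IsHomLift (𝟙 B) η.obj.iso.hom :=
        vert_change _ _ h3 (IsHomLift.codomain_eq _ (𝟙 B)
          ((pairU u).map (iF.inv.toNatTrans.app o)))
      exact show (fp (toSelf 𝒳) (toSelf 𝒳)).p.IsHomLift (𝟙 B) ((pairU u).map (iF.inv.toNatTrans.app o) ≫ η.obj.iso.hom) from inferInstance
    obtain ⟨-, e', he'⟩ := (vert_iff _ μ).1 h1
    exact ⟨trivial, e', he'⟩
  have hy : 𝒳.p.obj η.obj.snd = B := eμ.symm.trans ((pairU u).w_obj b)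
  let μ₁ : u.obj ((AlgSt.overMap prod.fst).obj b) ⟶ η.obj.snd := μ.hom.fst
  let μ₂ : u.obj ((AlgSt.overMap prod.snd).obj b) ⟶ η.obj.snd := μ.hom.snd
  have h₁ : 𝒳.p.IsHomLift (𝟙 B) μ₁ := (vert_iff _ _).2 ⟨u.w_obj _, eμ, hμ⟩
  have h₂ : 𝒳.p.IsHomLift (𝟙 B) μ₂ := by
    refine lift_mk _ (u.w_obj _) hy ?_
    refine (fp_map_snd μ).trans ?_
    rw [show 𝒳.p.map μ.hom.fst = eqToHom eμ from hμ]
    simp
  exact congrArg ((rigidη h).app (op B)) ((cls_eq_of_vert h μ₁).trans (cls_eq_of_vert h μ₂).symm)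

/-- The kernel pair of the chart is an algebraic space, flat and locally of finite presentation over the chart. -/
theorem exists_kernelPair (h𝒳 : AS 𝒳) (hfl : Fl (fpFst (FibCat.diag (toSelf 𝒳)) (FibCat.diag (toSelf 𝒳))))
    (hlp : Lp (fpFst (FibCat.diag (toSelf 𝒳)) (FibCat.diag (toSelf 𝒳)))) {U : Over S} (u : overCat U ⥤ᵇ 𝒳) :
    ∃ (X : AlgSp.Space S) (e : AlgSt.ofSp X.obj ⥤ᵇ fp (pairU u) (FibCat.diag (toSelf 𝒳)))
      (a : X.obj ⟶ pullback (rigidQ h𝒳.isStack.1 u) (rigidQ h𝒳.isStack.1 u)), IsEquivOver e ∧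
      a ≫ pullback.fst _ _ = AlgSt.spMapOfOver (BasedFunctor.comp e (fpFst _ _)) ≫ (AlgSp.yon S).map prod.fst ∧
      AlgSp.RepBySpWith
        (AlgSp.IsSurjectiveMor ⊓ AlgSp.LocP @Flat ⊓ AlgSp.LocP @LocallyOfFinitePresentation) a.hom := by
  have h := h𝒳.isStack.1
  let q := rigidQ h u
  let Δ := FibCat.diag (toSelf 𝒳)
  obtain ⟨X, e, he⟩ := h𝒳.diag (U ⨯ U) (pairU u)
  let a₀ := AlgSt.spMapOfOver (BasedFunctor.comp e (fpFst (pairU u) Δ))
  let a : X.obj ⟶ pullback q q := pullback.lift _ _ (isom_space_eq h u e)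
  obtain ⟨ι, hι, hι₁, hι₂⟩ := mono_pullback_prodLift q
  have ha : a ≫ ι = a₀ := by
    refine (cancel_mono (prodComparison (AlgSp.yon S) U U)).1 (prod.hom_ext ?_ ?_)
    · rw [Category.assoc, prodComparison_fst, Category.assoc, hι₁, Category.assoc, prodComparison_fst]
      exact pullback.lift_fst _ _ _
    · rw [Category.assoc, prodComparison_snd, Category.assoc, hι₂, Category.assoc, prodComparison_snd]
      exact pullback.lift_snd _ _ _
  refine ⟨X, e, a, he, pullback.lift_fst _ _ _, (AlgSp.repBySpWith_hom_iff _ _).2 fun T ξ P fst snd sq => ?_⟩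
  obtain ⟨t, ht⟩ := (AlgSp.yon S).map_surjective (ξ ≫ ι)
  have sq' : IsPullback fst snd a₀ ((AlgSp.yon S).map t) := by
    rw [ht, ← ha]
    exact LocIm.isPullback_comp_mono _ sq
  have hP : AlgSp.IsAlgSpace P := AlgSpLib.isAlgSpace_of_isPullback (AlgSp.IsAlgSpace.yon_obj (U ⨯ U)).diag
    X.property (AlgSp.IsAlgSpace.yon_obj T) sq'
  obtain ⟨E, hE, hEf⟩ := witness_pullback' (pairU u) t Δ he sq'
  let v := BasedFunctor.comp (AlgSt.overMap t) (pairU u)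
  have hprod : Stk.IsStack (AlgSp.J S) (fp (toSelf 𝒳) (toSelf 𝒳)) :=
    isStack_fp _ _ _ h𝒳.isStack h𝒳.isStack (isStack_isPrestack isStack_selfOver)
  have heq : (AlgSp.yon S).map (t ≫ prod.fst) ≫ q = (AlgSp.yon S).map (t ≫ prod.snd) ≫ q := by
    rw [Functor.map_comp, Functor.map_comp, ht, Category.assoc ξ, hι₁, Category.assoc ξ (pullback.fst q q),
      pullback.condition, Category.assoc ξ ι, hι₂, Category.assoc]
  have hloc : Gerb.LocSurjObj (AlgSp.J S) (fpFst v Δ) := fun b => by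
    obtain ⟨R, hR, hκ⟩ := exists_vert_of_rigidQ_eq h u
      (show (AlgSp.yon S).map (b.hom ≫ t ≫ prod.fst) ≫ q = (AlgSp.yon S).map (b.hom ≫ t ≫ prod.snd) ≫ q by
        rw [Functor.map_comp, Category.assoc, heq, ← Category.assoc, ← Functor.map_comp])
    refine ⟨R, hR, fun C f hf => ?_⟩
    obtain ⟨κ, hκ⟩ := hκ f hf
    let b' : (overCat T).obj := Over.mk (f ≫ b.hom)
    have ef : (AlgSt.overMap prod.fst).obj ((AlgSt.overMap t).obj b') = Over.mk (f ≫ b.hom ≫ t ≫ prod.fst) :=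
      congrArg Over.mk (by simp [b'] : ((f ≫ b.hom) ≫ t) ≫ prod.fst = _)
    have es : (AlgSt.overMap prod.snd).obj ((AlgSt.overMap t).obj b') = Over.mk (f ≫ b.hom ≫ t ≫ prod.snd) :=
      congrArg Over.mk (by simp [b'] : ((f ≫ b.hom) ≫ t) ≫ prod.snd = _)
    let y : 𝒳.obj := u.obj ((AlgSt.overMap prod.snd).obj ((AlgSt.overMap t).obj b'))
    let κ' : u.obj ((AlgSt.overMap prod.fst).obj ((AlgSt.overMap t).obj b')) ⟶ y :=
      eqToHom (congrArg u.obj ef) ≫ κ ≫ eqToHom (congrArg u.obj es.symm)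
    have hκ' : 𝒳.p.IsHomLift (𝟙 C) κ' := lift_mk _ (u.w_obj _) (u.w_obj _) (by
      simp only [κ', Functor.map_comp, eqToHom_map, IsHomLift.fac' 𝒳.p (𝟙 C) κ]
      simp)
    have hk : IsIso κ' := fibGrpd_isIso_vert h (R := C) κ'
    obtain ⟨-, eκ, hκm⟩ := (vert_iff _ κ').1 hκ'
    let m : v.obj b' ≅ Δ.obj y := fpIsoMk (@asIso _ _ _ _ κ' hk) (Iso.refl y) (prod_w _ _ (by
      show 𝒳.p.map (𝟙 y) = eqToHom _ ≫ 𝒳.p.map κ' ≫ eqToHom _
      rw [hκm, 𝒳.p.map_id]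
      simp))
    exact ⟨fpMk b' y m (fpIsoMk_vert _ _ _ hκ'), (Over.homMk f rfl : b' ⟶ b), lift_mk _ rfl rfl (by
      change f = 𝟙 _ ≫ f ≫ 𝟙 _
      simp)⟩
  obtain ⟨W, c, hc₁, hc₂, hc₃, w, ⟨iw⟩⟩ := Gerbe.exists_cover_of_locSurjObj
    (isStack_fp v Δ _ (isAlgStack_overCat T).isStack h𝒳.isStack (isStack_isPrestack hprod))
    (isAlgStack_overCat T).isStack hloc T (BasedFunctor.id _)
  obtain ⟨h₁, h₂, h₃⟩ := props_of_lift c (BasedFunctor.comp w (fpSnd v Δ))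
    (show BasedFunctor.comp (AlgSt.overMap c) v ≅ BasedFunctor.comp (BasedFunctor.comp w (fpSnd v Δ)) Δ from
      (postB _ v).mapIso iw.symm ≪≫ (Stk.restr w _).mapIso (fpIso v Δ)) hP hE hfl hlp
  rw [hEf] at h₁ h₂ h₃
  exact ⟨hP, ⟨h₁, h₂⟩, h₃⟩

end Groth.Agent.Stk19b.Rigid
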