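import Groth.Agent.Stk19b.Rigid.OpenDense
import Groth.Agent.Stk19b.OpenSub.Locus
import Groth.Agent.Stk19b.Gerbe.QcDiag
import Groth.Agent.S12867
import Groth.Agent.Stk19.AlgSt.SepSp
import Groth.Agent.Stk19.AlgSt.UnivTop
import Groth.Agent.Stk19.AlgSt.AlgMisc

/-!
# Gerbe strata in a closed set of points
-/

set_option autoImplicit false
set_option backward.isDefEq.respectTransparency false
set_option backward.isDefEq.respectTransparency.types false

universe u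

open CategoryTheory CategoryTheory.Limits AlgebraicGeometry Opposite FibCat Groth.Agent.Desc19

noncomputable section

namespace Groth.Agent.Stk19b.Rigid

open Groth.Agent.Stk19

variable {S : Scheme.{u}} {𝒳 𝒵 : AlgSt.Cat S}

local notation "AS" => AlgSt.IsAlgStack Scheme.fppfPrecoverage
local notation "Sm" => AlgSt.RepByAlgSpWith (AlgSp.LocP @Smooth)
local notation "Srj" => AlgSt.RepByAlgSpWith AlgSp.IsSurjectiveMor

theorem isClosedMap_points_closedImm (h𝒳 : AS 𝒳) (h𝒵 : AS 𝒵) {f : 𝒵 ⥤ᵇ 𝒳} (hf : AlgSt.IsClosedImm f) :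
    IsClosedMap (AlgSt.Points.map f) := by
  intro C hC
  obtain ⟨U, u, hu, hus⟩ := h𝒳.atlas
  have hq : Topology.IsQuotientMap (AlgSt.Points.ofChart u) :=
    (isOpenMap_ofChart_smooth h𝒳.isStack.1 hu).isQuotientMap (continuous_ofChart h𝒳 u)
      (ofChart_surjective h𝒳.isStack.1 hus)
  refine hq.isClosed_preimage.1 ?_
  obtain ⟨F, e, he, ha⟩ := hf U u
  let a := AlgSt.spMapOfOver (BasedFunctor.comp e (fpFst u f))
  let g : AlgSp.Points F.obj → AlgSt.Points 𝒵 := fun d =>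
    AlgSt.Points.map (BasedFunctor.comp e (fpSnd u f)) (stPt d)
  have hD : IsClosed (g ⁻¹' C) := hC.preimage ((continuous_points_map h𝒵 _).comp (continuous_stPt F))
  have him := (isClosedMap_points (AlgSp.IsAlgSpace.yon_obj U) ha _ hD).preimage (AlgSp.Points.schemeHomeo U).continuous
  have key : ∀ d t, AlgSp.Points.map a d = AlgSp.Points.ofScheme U t →
      AlgSt.Points.map (fpFst u f) (AlgSt.Points.map e (stPt d)) = AlgSt.Points.ofChart (BasedFunctor.id _) t := by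
    intro d t hdt
    rw [← points_map_comp, map_toOver_stPt, ofChart_id]
    exact congrArg (fun z => AlgSt.Points.map (AlgSt.toOverCat U) (stPt z)) hdt
  convert him using 1
  ext t
  constructor
  · rintro ⟨c, hc, hct⟩
    obtain ⟨w, hw₁, hw₂⟩ := exists_points_fp h𝒵.isStack.1 h𝒳.isStack.1 (isFibGrpd_overCat U) f u
      (AlgSt.Points.ofChart (BasedFunctor.id _) t) c (by rw [← ofChart_eq_map]; exact hct.symm)
    obtain ⟨w', rfl⟩ := (points_bijective_of_equiv he).2 w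
    obtain ⟨d, rfl⟩ := stPt_bijective.2 w'
    refine ⟨d, ?_, ?_⟩
    · show AlgSt.Points.map (BasedFunctor.comp e (fpSnd u f)) (stPt d) ∈ C
      rw [points_map_comp, hw₂]; exact hc
    · refine stPt_bijective.1 ((points_bijective_of_equiv (isEquivOver_toOverCat U)).1 ?_)
      rw [← map_toOver_stPt, points_map_comp, hw₁]
      rfl
  · rintro ⟨d, hd, hdt⟩
    refine ⟨g d, hd, ?_⟩
    show AlgSt.Points.map f (AlgSt.Points.map (BasedFunctor.comp e (fpSnd u f)) (stPt d)) = _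
    rw [points_map_comp, ← points_map_comp (fpSnd u f), ← points_map_congr (fpIso u f), points_map_comp,
      key d t hdt]
    exact (ofChart_eq_map u t).symm

/-- An isomorphism-closed fibred full subcategory is closed under morphisms into it. -/
theorem sub_of_hom (h : IsFibGrpd 𝒳.p) {Q : 𝒳.obj → Prop} (hQ : ObjectProperty.IsClosedUnderIsomorphisms Q)
    (hs : IsFibGrpd (AlgSt.fullSub 𝒳 Q).p) ⦃a b : 𝒳.obj⦄ (φ : a ⟶ b) (hb : Q b) : Q a := by
  obtain ⟨c, ψ, ec, hψ⟩ := fibGrpd_lift hs (⟨b, hb⟩ : (AlgSt.fullSub 𝒳 Q).obj) (𝒳.p.map φ)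
  have hm : 𝒳.p.map ψ.hom = eqToHom ec ≫ 𝒳.p.map φ := hψ
  have ec' : 𝒳.p.obj c.1 = 𝒳.p.obj a := ec
  obtain ⟨χ, ⟨hχ, -⟩, -⟩ := fibGrpd_fac h φ ψ.hom (eqToHom ec') hm.symm
  have : IsIso χ :=
    have : IsIso (𝒳.p.map χ) := by rw [hχ]; infer_instance
    fibGrpd_isIso h χ
  exact hQ.of_iso (asIso χ) c.2

/-- A smaller open substack of a gerbe is a gerbe. -/
theorem isAlgGerbe_inSet_mono (h𝒳 : AS 𝒳) {T T' : Set (AlgSt.Points 𝒳)} (hT : IsOpen T) (hT' : IsOpen T')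
    (hle : T' ⊆ T) (hg : Gerb.IsAlgGerbe Scheme.fppfPrecoverage (AlgSt.fullSub 𝒳 (inSet T))) :
    Gerb.IsAlgGerbe Scheme.fppfPrecoverage (AlgSt.fullSub 𝒳 (inSet T')) := by
  obtain ⟨hr, hI⟩ := isAlgStack_inertia_self h𝒳
  have hU := (isOpenSubstack_inSet h𝒳 hT).2.1
  have hU' := (isOpenSubstack_inSet h𝒳 hT').2.1
  obtain ⟨hrU, hIU⟩ := isAlgStack_inertia_self hU
  obtain ⟨hrU', hIU'⟩ := isAlgStack_inertia_self hU'
  obtain ⟨h₁, h₂⟩ := inertia_props_of_gerbe hU hg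
  let I := inertiaToBase (toSelf 𝒳)
  let j := AlgSt.subIncl 𝒳 (inSet T)
  let j' := AlgSt.subIncl 𝒳 (inSet T')
  have main : ∀ {Q : MorphismProperty Scheme.{u}}, AlgSpLib.EtLocal Q →
      AlgSp.IsSmoothLocalST (AlgSp.LocP (S := S) Q) →
      AlgSt.LocQ (AlgSp.LocP Q) (inertiaToBase (toSelf (AlgSt.fullSub 𝒳 (inSet T)))) →
      AlgSt.LocQ (AlgSp.LocP Q) (inertiaToBase (toSelf (AlgSt.fullSub 𝒳 (inSet T')))) := fun {Q} hQ hsm h => by
    have a₁ : AlgSt.RepByAlgSpWith (AlgSp.LocP Q) (fpFst j I) :=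
      (repByAlgSpWith_iff_of_square (f' := inertiaToBase (toSelf (AlgSt.fullSub 𝒳 (inSet T))))
        (f := fpFst j I) (a := inertiaSub (inSet T)) (b := BasedFunctor.id _) (isEquivOver_inertiaSub _)
        (isEquivOver_id _) (Iso.refl _)).1
        (with_of_locQ hsm (pbStable_locP hQ) (schDescent_locP hQ) hIU hU hrU h)
    have a₂ : AlgSt.RepByAlgSpWith (AlgSp.LocP Q) (fpFst j' I) :=
      (repByAlgSpWith_iff_of_square (f' := fpFst (subLE hle) (fpFst j I)) (f := fpFst j' I)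
        (a := fpPaste (subLE hle) j I) (b := BasedFunctor.id _) (isEquivOver_fpPaste (subLE hle) j I) (isEquivOver_id _)
        (eqToIso (fpPaste_fst (subLE hle) j I).symm)).1 (repByAlgSpWith_fpFst (subLE hle) a₁)
    refine locQ_of_with hsm hIU' hU' ?_
    exact (repByAlgSpWith_iff_of_square (f' := inertiaToBase (toSelf (AlgSt.fullSub 𝒳 (inSet T'))))
      (f := fpFst j' I) (a := inertiaSub (inSet T')) (b := BasedFunctor.id _) (isEquivOver_inertiaSub _)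
      (isEquivOver_id _) (Iso.refl _)).2 a₂
  exact isAlgGerbe_of_inertia hU' (main AlgSpLib.etLocal_flat smST_flat h₁) (main AlgSpLib.etLocal_lfp smST_lfp h₂)

/-- A smooth chart gives a smooth surjection onto the open substack on its image. -/
theorem exists_lift_inSet (h𝒳 : AS 𝒳) {T : Set (AlgSt.Points 𝒳)} (hT : IsOpen T) {O : Over S}
    {z : overCat O ⥤ᵇ 𝒳} (hz : Sm z) (hzT : Set.range (AlgSt.Points.ofChart z) = T) :
    ∃ L : overCat O ⥤ᵇ AlgSt.fullSub 𝒳 (inSet T), Sm L ∧ Srj L := by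
  have h := h𝒳.isStack.1
  let j := AlgSt.subIncl 𝒳 (inSet T)
  let L : overCat O ⥤ᵇ AlgSt.fullSub 𝒳 (inSet T) :=
    { toFunctor := ObjectProperty.lift _ z.toFunctor fun a => (inSet_chart_iff h z a T).2 fun v => by
        rw [← hzT]
        exact ⟨_, rfl⟩
      w := z.w }
  have hL : Sm L := repByAlgSpWith_of_comp_ff L j hz
  refine ⟨L, hL, with_surjective_of_ofChart (isOpenSubstack_inSet h𝒳 hT).2.1.isStack.1 (repByAlgSp1_of_with hL) fun p => ?_⟩
  have hp : AlgSt.Points.map j p ∈ T := (Set.ext_iff.1 (range_subIncl_inSet T h) _).1 ⟨p, rfl⟩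
  obtain ⟨v, hv⟩ := (Set.ext_iff.1 hzT _).2 hp
  refine ⟨v, points_map_subIncl_injective h (fun _ _ φ hb => inSet_of_hom φ hb) ?_⟩
  rw [← hv]
  exact map_ofChart L j v

section Stratum

variable {QT : 𝒳.obj → Prop} (W : Set (AlgSt.Points (AlgSt.fullSub 𝒳 QT)))

/-- The objects of a substack with points in `W`. -/
def strQ : 𝒳.obj → Prop := fun y => ∃ hy : QT y, inSet W (⟨y, hy⟩ : (AlgSt.fullSub 𝒳 QT).obj)

/-- Comparison with the iterated substack. -/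
def strTo : AlgSt.fullSub (AlgSt.fullSub 𝒳 QT) (inSet W) ⥤ᵇ AlgSt.fullSub 𝒳 (strQ W) where
  toFunctor :=
    { obj := fun y => ⟨y.1.1, y.1.2, y.2⟩
      map := fun φ => ObjectProperty.homMk φ.hom.hom }
  w := rfl

/-- The inverse comparison. -/
def strFrom : AlgSt.fullSub 𝒳 (strQ W) ⥤ᵇ AlgSt.fullSub (AlgSt.fullSub 𝒳 QT) (inSet W) where
  toFunctor :=
    { obj := fun y => ⟨⟨y.1, y.2.1⟩, y.2.2⟩
      map := fun φ => ObjectProperty.homMk (ObjectProperty.homMk φ.hom) }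
  w := rfl

theorem isEquivOver_strTo : IsEquivOver (strTo W) := by
  refine EqvData.isEquivOver ⟨⟨fun {a b} m => ⟨ObjectProperty.homMk (ObjectProperty.homMk m.hom), rfl⟩⟩,
    ⟨fun {a b} m m' hm => ObjectProperty.hom_ext _ (ObjectProperty.hom_ext _ (congrArg (fun t => t.hom) hm :))⟩,
    fun y => ⟨⟨⟨y.1, y.2.1⟩, y.2.2⟩, Iso.refl _, IsHomLift.id rfl⟩⟩

theorem isEquivOver_strFrom : IsEquivOver (strFrom W) := by
  refine EqvData.isEquivOver ⟨⟨fun {a b} m => ⟨ObjectProperty.homMk m.hom.hom, rfl⟩⟩,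
    ⟨fun {a b} m m' hm => ObjectProperty.hom_ext _ (congrArg (fun t => t.hom.hom) hm :)⟩,
    fun y => ⟨⟨y.1.1, y.1.2, y.2⟩, Iso.refl _, IsHomLift.id rfl⟩⟩

theorem stratum_props (h𝒳 : AS 𝒳) (hQT : AlgSt.IsClosedSubstack 𝒳 QT Scheme.fppfPrecoverage)
    (hred : AlgSt.SmoothLocally (fun X => IsReduced X) (AlgSt.fullSub 𝒳 QT)) (hW : IsOpen W)
    (hg : Gerb.IsAlgGerbe Scheme.fppfPrecoverage (AlgSt.fullSub (AlgSt.fullSub 𝒳 QT) (inSet W))) :
    AlgSt.IsLocClosedSubstack 𝒳 (strQ W) Scheme.fppfPrecoverage ∧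
      AlgSt.SmoothLocally (fun X => IsReduced X) (AlgSt.fullSub 𝒳 (strQ W)) ∧
      Gerb.IsAlgGerbe Scheme.fppfPrecoverage (AlgSt.fullSub 𝒳 (strQ W)) ∧
      Set.range (AlgSt.Points.map (AlgSt.subIncl 𝒳 (strQ W))) = AlgSt.Points.map (AlgSt.subIncl 𝒳 QT) '' W := by
  obtain ⟨hiso, hZ, hcl⟩ := hQT
  have hd := sub_of_hom h𝒳.isStack.1 hiso hZ.isStack.1
  obtain ⟨hW₁, hW₂, hW₃⟩ := isOpenSubstack_inSet hZ hW
  have hQ : AS (AlgSt.fullSub 𝒳 (strQ W)) := isAlgStack_of_equiv (isEquivOver_strTo W) hW₂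
  let jW := AlgSt.subIncl (AlgSt.fullSub 𝒳 QT) (inSet W)
  let jT := AlgSt.subIncl 𝒳 QT
  refine ⟨⟨⟨fun {a b} e ⟨ha, ha'⟩ => ⟨hd e.inv ha, inSet_of_hom (ObjectProperty.homMk e.inv) ha'⟩⟩, hQ, ?_⟩, ?_, ?_, ?_⟩
  · have h₁ : AlgSt.IsImm jW := repByAlgSpWith_mono (fun _ _ _ _ ha =>
      AlgSpLib.RepWith.mono (fun _ _ g (_ : IsOpenImmersion g) => (inferInstance : IsImmersion g)) ha) hW₃
    have h₂ : AlgSt.IsImm jT := repByAlgSpWith_mono (fun _ _ _ _ ha =>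
      AlgSpLib.RepWith.mono (fun _ _ g (_ : IsClosedImmersion g) => (inferInstance : IsImmersion g)) ha) hcl
    exact with_equiv_comp (isEquivOver_strFrom W)
      (repByAlgSpWith_comp_sch (P := AlgSp.RepWith @IsImmersion) (fun _ _ b _ hb => scheme_of_repWith b hb)
        (fun _ _ _ hX hY hZ' a b ha hb => repWith_comp' hX hY hZ' a b ha hb)
        hW₂.isStack.1 hZ.isStack.1 h₁ h₂)
  · intro U x hx
    have hj : Sm jW := repByAlgSpWith_mono (fun _ _ _ hX ha => AlgSpLib.locP_of_repWith AlgSpLib.etLocal_smooth hX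
      (AlgSpLib.RepWith.mono (fun _ _ g (_ : IsOpenImmersion g) => (inferInstance : Smooth g)) ha)) hW₃
    exact hred U _ (with_comp_locP AlgSpLib.etLocal_smooth hW₂.isStack.1
      (with_comp_equiv (isEquivOver_strFrom W) hx) hj)
  · obtain ⟨X, π, hs, hh⟩ := hg
    refine ⟨X, BasedFunctor.comp (strFrom W) π, fun y => ?_, fun x x' b hb => ?_⟩
    · obtain ⟨R, hR, hx⟩ := hs y
      refine ⟨R, hR, fun V f hf => ?_⟩
      obtain ⟨x, g, hg⟩ := hx f hf
      exact ⟨(strTo W).obj x, g, hg⟩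
    · obtain ⟨R, hR, hx⟩ := hh ((strFrom W).obj x) ((strFrom W).obj x') b hb
      refine ⟨R, hR, fun V f hf => ?_⟩
      obtain ⟨x₀, φ, ψ, hφ, hψ, he⟩ := hx f hf
      exact ⟨(strTo W).obj x₀, (strTo W).map φ, (strTo W).map ψ,
        BasedFunctor.preserves_isHomLift (strTo W) f φ, BasedFunctor.preserves_isHomLift (strTo W) f ψ, he⟩
  · rw [show AlgSt.subIncl 𝒳 (strQ W) = BasedFunctor.comp (strFrom W) (BasedFunctor.comp jW jT) from rfl]
    ext p
    constructor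
    · rintro ⟨q, rfl⟩
      rw [points_map_comp, points_map_comp]
      exact ⟨_, (Set.ext_iff.1 (range_subIncl_inSet W hZ.isStack.1) _).1 ⟨_, rfl⟩, rfl⟩
    · rintro ⟨w, hw, rfl⟩
      obtain ⟨q, rfl⟩ := (Set.ext_iff.1 (range_subIncl_inSet W hZ.isStack.1) _).2 hw
      obtain ⟨r, rfl⟩ := (points_bijective_of_equiv (isEquivOver_strFrom W)).2 q
      exact ⟨r, by rw [points_map_comp, points_map_comp]⟩

end Stratum

/-- A reduced gerbe stratum, open and dense in a closed set, with a quasi-compact nonempty piece. -/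
theorem exists_strata (h𝒳 : AS 𝒳) (hI : AlgSt.IsQuasiCompactMor Scheme.fppfPrecoverage (inertiaToBase (toSelf 𝒳)))
    {T : Set (AlgSt.Points 𝒳)} (hT : IsClosed T) :
    (∃ Q : 𝒳.obj → Prop, AlgSt.IsLocClosedSubstack 𝒳 Q Scheme.fppfPrecoverage ∧
      AlgSt.SmoothLocally (fun X => IsReduced X) (AlgSt.fullSub 𝒳 Q) ∧
      Gerb.IsAlgGerbe Scheme.fppfPrecoverage (AlgSt.fullSub 𝒳 Q) ∧
      (∃ A, IsOpen A ∧ Set.range (AlgSt.Points.map (AlgSt.subIncl 𝒳 Q)) = T ∩ A) ∧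
      T ⊆ closure (Set.range (AlgSt.Points.map (AlgSt.subIncl 𝒳 Q)))) ∧
    ∃ Q : 𝒳.obj → Prop, AlgSt.IsLocClosedSubstack 𝒳 Q Scheme.fppfPrecoverage ∧
      AlgSt.SmoothLocally (fun X => IsReduced X) (AlgSt.fullSub 𝒳 Q) ∧
      AlgSt.IsQuasiCompact (AlgSt.fullSub 𝒳 Q) ∧
      Gerb.IsAlgGerbe Scheme.fppfPrecoverage (AlgSt.fullSub 𝒳 Q) ∧
      (∃ A, IsOpen A ∧ Set.range (AlgSt.Points.map (AlgSt.subIncl 𝒳 Q)) = T ∩ A) ∧
      (T.Nonempty → (Set.range (AlgSt.Points.map (AlgSt.subIncl 𝒳 Q))).Nonempty) := by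
  obtain ⟨QT, hQT, hrT, hred⟩ := S12867.result h𝒳 T hT
  have hclosed := hQT
  obtain ⟨hiso, hZ, hcl⟩ := hQT
  let jT := AlgSt.subIncl 𝒳 QT
  have hd := sub_of_hom h𝒳.isStack.1 hiso hZ.isStack.1
  obtain ⟨hr, -⟩ := isAlgStack_inertia_self h𝒳
  obtain ⟨-, hIZ⟩ := isAlgStack_inertia_self hZ
  have hIT : AlgSt.IsQuasiCompactMor Scheme.fppfPrecoverage (inertiaToBase (toSelf (AlgSt.fullSub 𝒳 QT))) :=
    Gerbe.qcMor_comp (isAlgStack_fp h𝒳.isStack h𝒳.diag hZ (isAlgStack_inertia_self h𝒳).2 jT (inertiaToBase (toSelf 𝒳)))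
      hZ (qcMor_of_equiv (isEquivOver_inertiaSub QT)) (isQuasiCompactMor_fpFst jT hI)
  obtain ⟨W, hW, hWd, hWg⟩ := isAlgGerbe_dense hZ hred hIT
  have hinj := points_map_subIncl_injective h𝒳.isStack.1 hd
  have hopen : ∀ W' : Set (AlgSt.Points (AlgSt.fullSub 𝒳 QT)), IsOpen W' →
      ∃ A, IsOpen A ∧ AlgSt.Points.map jT '' W' = T ∩ A := fun W' hW' => by
    refine ⟨(AlgSt.Points.map jT '' W'ᶜ)ᶜ,
      (isClosedMap_points_closedImm h𝒳 hZ hcl _ hW'.isClosed_compl).isOpen_compl, ?_⟩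
    rw [← Set.sdiff_eq, ← hrT, ← Set.image_univ, ← Set.image_sdiff hinj, ← Set.compl_eq_univ_sdiff, compl_compl]
  refine ⟨?_, ?_⟩
  · obtain ⟨h₁, h₂, h₃, h₄⟩ := stratum_props W h𝒳 hclosed hred hW hWg
    refine ⟨_, h₁, h₂, h₃, by rw [h₄]; exact hopen W hW, ?_⟩
    rw [h₄, ← hrT]
    exact ((continuous_points_map h𝒳 jT).range_subset_closure_image_dense hWd)
  · obtain ⟨U, v, hv, hvs⟩ := hZ.atlas
    have hcv := continuous_ofChart hZ v
    obtain ⟨A, hA, hAW, hne⟩ : ∃ A : U.left.Opens, IsAffineOpen A ∧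
        (∀ t ∈ A, AlgSt.Points.ofChart v t ∈ W) ∧ (W.Nonempty → ∃ t, t ∈ A) := by
      by_cases hne : W.Nonempty
      · obtain ⟨p, hp⟩ := hne
        obtain ⟨t, rfl⟩ := ofChart_surjective hZ.isStack.1 hvs p
        obtain ⟨A, hA, htA, hsub⟩ := exists_isAffineOpen_mem_and_subset (x := t)
          (U := (⟨_, hW.preimage hcv⟩ : U.left.Opens)) hp
        exact ⟨A, hA, fun s hs => hsub hs, fun _ => ⟨t, htA⟩⟩
      · exact ⟨⊥, isAffineOpen_bot _, fun t ht => ht.elim, fun h => absurd h hne⟩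
    let z := BasedFunctor.comp (AlgSt.overMap (openHom U A)) v
    have hz : Sm z := with_comp_chart AlgSpLib.etLocal_smooth _ (inferInstanceAs (Smooth A.ι)) hv
    let W' := AlgSt.Points.ofChart v '' (A : Set U.left)
    have hW' : IsOpen W' := isOpenMap_ofChart_smooth hZ.isStack.1 hv _ A.isOpen
    have hzr : Set.range (AlgSt.Points.ofChart z) = W' := by
      ext p
      constructor
      · rintro ⟨a, rfl⟩
        exact ⟨A.ι a, a.2, (ofChart_overMap (openHom U A) v a).symm⟩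
      · rintro ⟨w, hw, rfl⟩
        exact ⟨(⟨w, hw⟩ : A.toScheme), ofChart_overMap (openHom U A) v (⟨w, hw⟩ : A.toScheme)⟩
    have hWW' : W' ⊆ W := by rintro _ ⟨t, ht, rfl⟩; exact hAW t ht
    obtain ⟨h₁, h₂, h₃, h₄⟩ := stratum_props W' h𝒳 hclosed hred hW' (isAlgGerbe_inSet_mono hZ hW hW' hWW' hWg)
    obtain ⟨L, hL, hLs⟩ := exists_lift_inSet hZ hW' hz hzr
    refine ⟨_, h₁, h₂, ⟨openObj U A, BasedFunctor.comp L (strTo W'), hA,
      with_comp_equiv (isEquivOver_strTo W') hL, with_comp_equiv (isEquivOver_strTo W') hLs⟩, h₃,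
      by rw [h₄]; exact hopen W' hW', fun hTne => ?_⟩
    rw [h₄]
    have : Nonempty (AlgSt.Points (AlgSt.fullSub 𝒳 QT)) := by
      rw [← hrT] at hTne
      exact Set.range_nonempty_iff_nonempty.1 hTne
    obtain ⟨t, ht⟩ := hne hWd.nonempty
    exact ⟨_, _, ⟨t, ht, rfl⟩, rfl⟩

end Groth.Agent.Stk19b.Rigid
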